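import Cfsg.Agent.Lib.Chars.TwoDegrees
import Cfsg.Agent.Lib.Chars.Broline
import Cfsg.Agent.Lib.Clifford.IndTrans
import Cfsg.Agent.Lib.Clifford.Gallagher

/-!
# Groups with at most three irreducible degrees: generalities, and the case of a common prime
-/

set_option autoImplicit false

namespace Cfsg.Agent.Lib.ThreeDegrees

open Cfsg.Agent.Lib
open Cfsg.Agent.Lib.Chars (trivialIrr)
open scoped commutatorElement

universe u

/-- Every irreducible degree is `1`, `m` or `n`. -/
def Degs3 (m n : ℕ) (G : Type u) [Group G] : Prop :=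
  ∀ χ : IrrCharacter G, charDegree (χ : G → ℂ) = 1 ∨ charDegree (χ : G → ℂ) = m ∨
    charDegree (χ : G → ℂ) = n

variable {G : Type u} [Group G]

theorem Degs3.swap {m n : ℕ} (h : Degs3 m n G) : Degs3 n m G := fun χ =>
  (h χ).imp id Or.symm

theorem Degs3.quotient [Finite G] {m n : ℕ} (h : Degs3 m n G) (L : Subgroup G) [L.Normal] :
    Degs3 m n (G ⧸ L) := by
  intro χ
  have h1 : charDegree (Chars.inflate L χ : G → ℂ) = charDegree (χ : G ⧸ L → ℂ) := rfl
  simpa [h1] using h (Chars.inflate L χ)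

theorem derivedSeries_two_of_degreesOneOr [Finite G] {m : ℕ} (h : Chars.DegreesOneOr m G) :
    derivedSeries G 2 = ⊥ := by
  cases nonempty_fintype G
  have hab : ∀ a ∈ commutator G, ∀ b ∈ commutator G, a * b = b * a := by
    by_cases hex : m ≠ 1 ∧ ∃ χ : IrrCharacter G, charDegree (χ : G → ℂ) = m
    · exact (Chars.two_degrees_structure hex.1 h hex.2).2
    · intro a _ b _
      refine CoprimeDegree.mul_comm_of_linear (fun χ => ?_) a b
      rw [(Chars.charDegree_spec χ).2, Nat.cast_eq_one]
      rcases h χ with h1 | h1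
      · exact h1
      · by_contra hne
        exact hex ⟨fun hm => hne (h1.trans hm), χ, h1⟩
  rw [derivedSeries_succ, derivedSeries_one, Subgroup.commutator_eq_bot_iff_le_centralizer]
  exact fun a ha => Subgroup.mem_centralizer_iff.mpr fun b hb => hab b hb a ha

/-- Passing the derived series through a normal subgroup. -/
theorem derivedSeries_le_map_of_le (R : Subgroup G) {k i : ℕ}
    (h : derivedSeries G k ≤ (derivedSeries R i).map R.subtype) (j : ℕ) :
    derivedSeries G (k + j) ≤ (derivedSeries R (i + j)).map R.subtype := by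
  induction j with
  | zero => exact h
  | succ j ih =>
    rw [← add_assoc, ← add_assoc, derivedSeries_succ, derivedSeries_succ, Subgroup.map_commutator]
    exact Subgroup.commutator_mono ih ih

theorem derivedSeries_le_of_quotient (L : Subgroup G) [L.Normal] {k : ℕ}
    (h : derivedSeries (G ⧸ L) k = ⊥) : derivedSeries G k ≤ L := by
  have h1 := map_derivedSeries_eq (QuotientGroup.mk'_surjective L) k
  rw [h, Subgroup.map_eq_bot_iff, QuotientGroup.ker_mk'] at h1
  exact h1

/-- An element in the kernel of every irreducible character is trivial. -/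
theorem eq_one_of_forall_irr [Finite G] {g : G}
    (h : ∀ χ : IrrCharacter G, (χ : G → ℂ) g = (χ : G → ℂ) 1) : g = 1 := by
  have := Fintype.ofFinite G
  exact isConj_one_left.mp (Chars.isConj_iff_irr.mpr h)

theorem le_bot_of_forall_irr [Finite G] {L : Subgroup G}
    (h : ∀ g ∈ L, ∀ χ : IrrCharacter G, (χ : G → ℂ) g = (χ : G → ℂ) 1) : L = ⊥ :=
  (Subgroup.eq_bot_iff_forall L).mpr fun g hg => eq_one_of_forall_irr (h g hg)

/-- A constituent of the restriction to a subgroup. -/
theorem exists_constituent [Finite G] (N : Subgroup G) [Fintype N] (χ : IrrCharacter G) :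
    ∃ θ : IrrCharacter N, classInner (Clifford.resFun N (χ : G → ℂ)) (θ : N → ℂ) ≠ 0 := by
  have hres : IsCharacter N (Clifford.resFun N (χ : G → ℂ)) :=
    Chars.isCharacter_restrict N (Chars.irr_isCharacter χ)
  by_contra! h0
  have := congrFun (Chars.isCharacter_eq_sum_classInner hres) 1
  simp [Clifford.resFun, h0, Chars.irr_apply_one_ne_zero χ] at this

/-- An irreducible character over a given one. -/
theorem exists_over [Fintype G] (N : Subgroup G) [Fintype N] (θ : IrrCharacter N) :
    ∃ χ : IrrCharacter G, classInner (Clifford.resFun N (χ : G → ℂ)) (θ : N → ℂ) ≠ 0 := by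
  obtain ⟨χ, hχ⟩ : ∃ χ : IrrCharacter G,
      classInner (indFun N (θ : N → ℂ)) (χ : G → ℂ) ≠ 0 := by
    by_contra! h0
    have := congrFun (Chars.isCharacter_eq_sum_classInner
      (Chars.isCharacter_indFun N (Chars.irr_isCharacter θ))) 1
    simp [Chars.indFun_one_eq, h0, Chars.irr_apply_one_ne_zero θ,
      Subgroup.index_ne_zero_of_finite] at this
  rw [Chars.classInner_indFun_left N _ _ (Chars.irr_isClassFunction χ)] at hχ
  exact ⟨χ, fun h => hχ (by rw [← Chars.conj_classInner]; exact (congrArg _ h).trans (map_zero _))⟩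

/-- The degree of a constituent of the restriction to a normal subgroup. -/
theorem constituent_dvd [Fintype G] (N : Subgroup G) [N.Normal] [Fintype N] (χ : IrrCharacter G)
    (θ : IrrCharacter N)
    (h : classInner (Clifford.resFun N (χ : G → ℂ)) (θ : N → ℂ) ≠ 0) :
    charDegree (θ : N → ℂ) ∣ charDegree (χ : G → ℂ) ∧
      charDegree (χ : G → ℂ) / charDegree (θ : N → ℂ) ∣ N.index :=
  S0887.result N _ χ.2 _ θ.2 h _ _ (Chars.charDegree_spec χ).2 (Chars.charDegree_spec θ).2

theorem charDegree_dvd_card [Finite G] (χ : IrrCharacter G) :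
    charDegree (χ : G → ℂ) ∣ Nat.card G := by
  obtain ⟨d, -, hd, hdvd⟩ := Chars.irr_degree_dvd_card χ
  rwa [Codegree.charDegree_eq hd]

/-- A character whose restriction to `N` has a constituent: the kernel passes down. -/
theorem constituent_kernel [Fintype G] (N : Subgroup G) [Fintype N] (χ : IrrCharacter G)
    (θ : IrrCharacter N) (h : classInner (Clifford.resFun N (χ : G → ℂ)) (θ : N → ℂ) ≠ 0) (x : N)
    (hx : (χ : G → ℂ) x = (χ : G → ℂ) 1) : (θ : N → ℂ) x = (θ : N → ℂ) 1 :=
  (Chars.constituent_facts θ (Chars.isCharacter_restrict N (Chars.irr_isCharacter χ))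
    (fun h0 => h (by rw [← Chars.conj_classInner]; exact (congrArg _ h0).trans (map_zero _)))).2.2 x
    (by simpa using hx)

/-- An irreducible character trivial on the derived subgroup is linear. -/
theorem linear_of_trivial_on_commutator [Finite G] (χ : IrrCharacter G)
    (h : ∀ g ∈ commutator G, (χ : G → ℂ) g = (χ : G → ℂ) 1) : (χ : G → ℂ) 1 = 1 := by
  obtain ⟨ψ, hψ⟩ := Chars.exists_irr_quotient (commutator G) χ h
  have : IsMulCommutative (G ⧸ commutator G) :=
    (Subgroup.Normal.quotient_commutative_iff_commutator_le).mpr le_rfl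
  exact (hψ 1).symm.trans (Chars.irr_apply_one_of_comm ψ)

/-- A monomial character is trivial one derived step below the kernels of all smaller degrees
(Taketa). -/
theorem taketa [Fintype G] (H : Subgroup G) (ν : H →* ℂˣ) (χ : IrrCharacter G)
    (hχ : (χ : G → ℂ) = indFun H (fun x : H => (ν x : ℂ))) (k : ℕ)
    (hsmall : ∀ ψ : IrrCharacter G, charDegree (ψ : G → ℂ) < charDegree (χ : G → ℂ) →
      ∀ g ∈ derivedSeries G k, (ψ : G → ℂ) g = (ψ : G → ℂ) 1) :
    ∀ g ∈ derivedSeries G (k + 1), (χ : G → ℂ) g = (χ : G → ℂ) 1 := by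
  classical
  have := Fintype.ofFinite H
  have hidx : (H.index : ℕ) = charDegree (χ : G → ℂ) := by
    have h1 := Chars.indFun_one_eq H (fun x : H => ((ν x : ℂˣ) : ℂ))
    rw [← hχ, (Chars.charDegree_spec χ).2, map_one, Units.val_one, mul_one] at h1
    exact_mod_cast h1.symm
  set P : G → ℂ := indFun H (fun _ => 1) with hP
  obtain ⟨c, hc⟩ := Chars.isCharacter_exists_nat_decomp
    (Chars.isCharacter_indFun H (Chars.irr_isCharacter (trivialIrr H)))
  have hc' : P = ∑ ψ, (c ψ : ℂ) • (ψ : G → ℂ) := hc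
  have hP1 : P 1 = (H.index : ℂ) := by rw [hP, Chars.indFun_one_eq, mul_one]
  have hsum : ∑ ψ, c ψ * charDegree (ψ : G → ℂ) = H.index := by
    have h1 := congrFun hc' 1
    simp only [hP1, Finset.sum_apply, Pi.smul_apply, smul_eq_mul,
      (Chars.charDegree_spec _).2] at h1
    exact_mod_cast h1.symm
  have htriv : c (trivialIrr G) = 1 := by
    have h1 : classInner P (trivialIrr G : G → ℂ) = (c (trivialIrr G) : ℂ) := by
      rw [hc', Chars.classInner_sum_smul_irr]
    rw [hP, Chars.classInner_indFun_left H _ _ (Chars.irr_isClassFunction _)] at h1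
    have h2 : classInner (fun _ : H => (1 : ℂ)) (fun x : H => (trivialIrr G : G → ℂ) x) = 1 :=
      Chars.classInner_irr_self (trivialIrr H)
    rw [h2] at h1
    exact_mod_cast h1.symm
  have hconst : ∀ ψ, c ψ ≠ 0 → ∀ g ∈ derivedSeries G k, (ψ : G → ℂ) g = (ψ : G → ℂ) 1 := by
    intro ψ hψ g hg
    by_cases hne : ψ = trivialIrr G
    · rw [hne]; simp
    refine hsmall ψ ?_ g hg
    have h2 := Finset.add_le_sum (f := fun ψ : IrrCharacter G => c ψ * charDegree (ψ : G → ℂ))
      (fun _ _ => Nat.zero_le _) (Finset.mem_univ ψ) (Finset.mem_univ (trivialIrr G)) hne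
    simp only [hsum, htriv, one_mul] at h2
    have h3 := Nat.le_mul_of_pos_left (charDegree (ψ : G → ℂ)) (Nat.pos_of_ne_zero hψ)
    have := (Chars.charDegree_spec (trivialIrr G)).1
    omega
  have hsub : derivedSeries G k ≤ H := by
    intro y hy
    by_contra hyH
    have hPy : P y = P 1 := by
      simp only [hc', Finset.sum_apply, Pi.smul_apply, smul_eq_mul]
      refine Finset.sum_congr rfl fun ψ _ => ?_
      by_cases hψ : c ψ = 0
      · simp [hψ]
      · rw [hconst ψ hψ y hy]
    rw [hP1, hP] at hPy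
    have hb : ∀ x : G, extendByZero H (fun _ => (1 : ℂ)) (x⁻¹ * y * x)
        = if x⁻¹ * y * x ∈ H then 1 else 0 := by
      intro x
      by_cases hx : x⁻¹ * y * x ∈ H
      · rw [if_pos hx, Chars.extendByZero_of_mem _ hx]
      · rw [if_neg hx, Chars.extendByZero_of_not_mem _ hx]
    simp only [indFun, hb] at hPy
    rw [Finset.sum_boole, inv_mul_eq_iff_eq_mul₀ (Nat.cast_ne_zero.mpr Nat.card_pos.ne'),
      ← Nat.cast_mul, Subgroup.card_mul_index, Nat.card_eq_fintype_card] at hPy
    have hall := Finset.card_eq_iff_eq_univ _ |>.mp (Nat.cast_injective hPy)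
    have := Finset.eq_univ_iff_forall.mp hall 1
    simp only [Finset.mem_filter, Finset.mem_univ, true_and, inv_one, one_mul, mul_one] at this
    exact hyH this
  have hker : ∀ y ∈ derivedSeries G (k + 1),
      extendByZero H (fun x : H => ((ν x : ℂˣ) : ℂ)) y = 1 := by
    intro y hy
    have hy' : y ∈ (commutator H).map H.subtype := by
      rw [Subgroup.map_subtype_commutator]
      rw [derivedSeries_succ] at hy
      exact Subgroup.commutator_mono hsub hsub hy
    obtain ⟨x, hx, rfl⟩ := Subgroup.mem_map.mp hy'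
    rw [Subgroup.subtype_apply, Chars.extendByZero_coe,
      MonoidHom.mem_ker.mp (Abelianization.commutator_subset_ker ν hx), Units.val_one]
  intro g hg
  rw [hχ]
  simp only [indFun]
  rw [Finset.sum_congr rfl (g := fun _ => (1 : ℂ)) fun x _ => hker _ (by
    have := (derivedSeries_normal G (k + 1)).conj_mem g hg x⁻¹
    simpa using this),
    Finset.sum_congr rfl (s₁ := (Finset.univ : Finset G))
      (f := fun x => extendByZero H (fun x : H => ((ν x : ℂˣ) : ℂ)) (x⁻¹ * 1 * x))
      (g := fun _ => (1 : ℂ)) fun x _ => hker _ (by simp [Subgroup.one_mem])]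

/-- Groups with an abelian normal `p'`-subgroup of `p`-power index are monomial. -/
theorem exists_monomial_of_abelian_normal [Fintype G] {p : ℕ} [hp : Fact p.Prime]
    (R : Subgroup G) [R.Normal] (hab : ∀ a ∈ R, ∀ b ∈ R, a * b = b * a)
    (hR : ¬ p ∣ Nat.card R) {e : ℕ} (he : R.index = p ^ e) (χ : IrrCharacter G) :
    ∃ (H : Subgroup G) (ν : H →* ℂˣ), (χ : G → ℂ) = indFun H (fun x : H => (ν x : ℂ)) := by
  classical
  have := Fintype.ofFinite R
  obtain ⟨θ, hθ⟩ := exists_constituent R χ
  have : IsMulCommutative R := ⟨⟨fun a b => Subtype.ext (hab a a.2 b b.2)⟩⟩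
  obtain ⟨lam, hlam⟩ := Chars.exists_hom_of_degree_one (Chars.irr_isCharacter θ)
    (Chars.irr_apply_one_of_comm θ)
  let T : Subgroup G :=
    { carrier := {g | Clifford.conjFun g (θ : R → ℂ) = (θ : R → ℂ)}
      one_mem' := Clifford.conjFun_one _
      mul_mem' := fun {a b} ha hb => by
        show Clifford.conjFun (a * b) _ = _
        rw [Clifford.conjFun_mul, show Clifford.conjFun a (θ : R → ℂ) = _ from ha]
        exact hb
      inv_mem' := fun {a} ha => by
        show Clifford.conjFun a⁻¹ _ = _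
        conv_lhs => rw [← show Clifford.conjFun a (θ : R → ℂ) = _ from ha]
        rw [← Clifford.conjFun_mul, mul_inv_cancel, Clifford.conjFun_one] }
  have hT : ∀ g, g ∈ T ↔ Clifford.conjFun g (θ : R → ℂ) = (θ : R → ℂ) := fun g => Iff.rfl
  have hRT : R ≤ T := by
    intro r hr
    rw [hT]
    funext n
    show (θ : R → ℂ) ⟨r * n * r⁻¹, _⟩ = _
    exact congrArg (θ : R → ℂ) (Subtype.ext (by
      rw [show ((⟨r * n * r⁻¹, _⟩ : R) : G) = r * n * r⁻¹ from rfl, hab r hr n n.2,
        mul_inv_cancel_right]))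
  have := Fintype.ofFinite T
  obtain ⟨ψ, hψirr, hψind, hψres⟩ :=
    Clifford.exists_clifford_correspondent θ.2 hT hRT χ.2 hθ
  set R0 : Subgroup T := R.subgroupOf T with hR0
  have := Fintype.ofFinite R0
  let e0 : R0 ≃* R := Subgroup.subgroupOfEquivOfLe hRT
  let lam0 : R0 →* ℂˣ := lam.comp e0.toMonoidHom
  have hidxT : R0.index ∣ p ^ e := by
    rw [← he]
    exact Subgroup.relIndex_dvd_index_of_normal R T
  obtain ⟨μ, hμ, -⟩ := Clifford.exists_linear_extension_coprime (N := R0) lam0 (fun g n => by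
      refine Units.ext ?_
      have := congrFun ((hT g).mp g.2) (e0 n)
      rw [Clifford.conjFun, hlam] at this
      exact this) (by
      have hord : orderOf lam0 ∣ Nat.card R := by
        refine orderOf_dvd_of_pow_eq_one (MonoidHom.ext fun x => ?_)
        rw [MonoidHom.pow_apply, MonoidHom.one_apply, MonoidHom.comp_apply, ← map_pow,
          pow_card_eq_one', map_one]
      exact Nat.Coprime.coprime_dvd_left hidxT (Nat.Coprime.coprime_dvd_right hord
        (((Nat.Prime.coprime_iff_not_dvd hp.out).mpr hR).pow_left e)))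
  have hμirr : IsIrrCharacter T (fun x => (μ x : ℂ)) := Chars.isIrrCharacter_of_hom μ
  have hμres : Clifford.resFun R0 (fun x => (μ x : ℂ)) = fun n => ((lam0 n : ℂˣ) : ℂ) :=
    funext fun n => congrArg Units.val (hμ n)
  obtain ⟨-, -, hiff⟩ := Clifford.gallagher (N := R0) hμirr
    (hμres ▸ Chars.isIrrCharacter_of_hom lam0)
  obtain ⟨η, hη⟩ := (hiff ψ hψirr).mp (by
    rw [hμres]
    have h1 := Clifford.classInner_comp_equiv e0 (Clifford.resTo hRT ψ) (θ : R → ℂ)
    refine fun h0 => hθ (hψres.symm.trans (h1.symm.trans ?_))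
    rw [← h0]
    congr 1
    funext n
    rw [hlam]
    rfl)
  have hpg : IsPGroup p (T ⧸ R0) := by
    obtain ⟨j, -, hj⟩ := (Nat.dvd_prime_pow hp.out).mp hidxT
    exact IsPGroup.of_card ((Subgroup.index_eq_card R0).symm.trans hj)
  have : Group.IsNilpotent (T ⧸ R0) := hpg.isNilpotent
  obtain ⟨H0, φ, hφ⟩ := BrauerInd.exists_monomial (T ⧸ R0) (η : T ⧸ R0 → ℂ) η.2
  have := Fintype.ofFinite H0
  set H1 : Subgroup T := H0.comap (QuotientGroup.mk' R0) with hH1
  have := Fintype.ofFinite H1
  let π : H1 →* H0 := ((QuotientGroup.mk' R0).comp H1.subtype).codRestrict H0 fun x => x.2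
  have hπ : Function.Surjective π := fun y => by
    obtain ⟨x, hx⟩ := QuotientGroup.mk_surjective (y : T ⧸ R0)
    exact ⟨⟨x, by rw [hH1, Subgroup.mem_comap, QuotientGroup.mk'_apply, hx]; exact y.2⟩,
      Subtype.ext hx⟩
  let ν1 : H1 →* ℂˣ := (μ.comp H1.subtype) * (φ.comp π)
  have hind : indFun H1 (fun x : H1 => (ν1 x : ℂ)) = ψ := by
    have hchar : IsCharacter T (indFun H1 (fun x : H1 => (ν1 x : ℂ))) :=
      Chars.isCharacter_indFun H1 (Chars.isCharacter_hom ν1)
    have hη1 : classInner (fun h : H0 => (φ h : ℂ)) (fun h : H0 => (η : T ⧸ R0 → ℂ) h) = 1 := by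
      rw [← Chars.classInner_indFun_left H0 _ _ (Chars.irr_isClassFunction η), ← hφ]
      exact Chars.classInner_irr_self η
    have hne : classInner ψ (indFun H1 (fun x : H1 => (ν1 x : ℂ))) ≠ 0 := by
      rw [← Chars.conj_classInner, Chars.classInner_indFun_left H1 _ _
        (Chars.irr_isClassFunction ⟨ψ, hψirr⟩)]
      have : classInner (fun x : H1 => (ν1 x : ℂ)) (fun x : H1 => ψ x) =
          classInner (fun x : H1 => (fun h : H0 => (φ h : ℂ)) (π x))
            (fun x : H1 => (fun h : H0 => (η : T ⧸ R0 → ℂ) h) (π x)) := by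
        simp only [classInner]
        congr 1
        refine Finset.sum_congr rfl fun x _ => ?_
        have hm : ((μ (x : T) : ℂˣ) : ℂ) * (starRingEnd ℂ) ((μ (x : T) : ℂˣ) : ℂ) = 1 := by
          rw [Complex.mul_conj, Complex.normSq_eq_norm_sq, Chars.norm_hom_apply]; simp
        rw [hη]
        simp only [ν1, MonoidHom.mul_apply, MonoidHom.comp_apply, Units.val_mul, Pi.mul_apply,
          map_mul, Subgroup.subtype_apply]
        calc _ = ((μ (x : T) : ℂˣ) : ℂ) * (starRingEnd ℂ) ((μ (x : T) : ℂˣ) : ℂ) *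
              (((φ (π x) : ℂˣ) : ℂ) *
                (starRingEnd ℂ) ((Chars.inflate R0 η : T → ℂ) (x : T))) := by ring
          _ = _ := by rw [hm, one_mul]; rfl
      rw [this, Chars.classInner_comp_of_surjective π hπ (fun h : H0 => (φ h : ℂ))
        (fun h : H0 => (η : T ⧸ R0 → ℂ) h), hη1]
      simp
    obtain ⟨-, heq, -⟩ := Chars.constituent_facts ⟨ψ, hψirr⟩ hchar hne
    refine heq ?_
    show (ψ 1).re = _
    rw [Chars.indFun_one_eq, map_one, Units.val_one, mul_one, hη, Pi.mul_apply, map_one,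
      Units.val_one, one_mul]
    show ((η : T ⧸ R0 → ℂ) ((1 : T) : T ⧸ R0)).re = _
    rw [QuotientGroup.mk_one, hφ, Chars.indFun_one_eq, map_one, Units.val_one, mul_one, hH1,
      Subgroup.index_comap_of_surjective _ (QuotientGroup.mk'_surjective R0)]
  refine ⟨H1.map T.subtype,
    ν1.comp (H1.equivMapOfInjective T.subtype T.subtype_injective).symm.toMonoidHom, ?_⟩
  rw [← hψind, ← hind, Clifford.indFun_indFun]
  rfl

/-- The case of a prime dividing both degrees. -/
theorem common_prime [Finite G] {m n : ℕ} (h : Degs3 m n G)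
    (hm : ∃ χ : IrrCharacter G, charDegree (χ : G → ℂ) = m) {p : ℕ} [hp : Fact p.Prime]
    (hpm : p ∣ m) (hpn : p ∣ n)
    (ih : ∀ (H : Type u) [Group H] [Finite H], Nat.card H < Nat.card G → ∀ a b : ℕ,
      Degs3 a b H → derivedSeries H 3 = ⊥) :
    derivedSeries G 3 = ⊥ := by
  classical
  cases nonempty_fintype G
  set R := Cfsg.pResidual p G with hRdef
  have hRn : R.Normal := Transfer.pResidual_normal
  have := Fintype.ofFinite R
  have hdeg : ∀ χ : IrrCharacter G, charDegree (χ : G → ℂ) ≠ 1 → p ∣ charDegree (χ : G → ℂ) := by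
    intro χ hχ
    rcases h χ with h1 | h1 | h1
    · exact absurd h1 hχ
    · exact h1 ▸ hpm
    · exact h1 ▸ hpn
  have hRp : ¬ p ∣ Nat.card R := Chars.not_dvd_card_pResidual_of_degrees p hdeg
  obtain ⟨e, he⟩ := Transfer.index_pResidual (G := G) (p := p)
  have hpG : p ∣ Nat.card G := by
    obtain ⟨χ, hχ⟩ := hm
    exact hpm.trans (hχ ▸ charDegree_dvd_card χ)
  have hlt : Nat.card R < Nat.card G :=
    lt_of_le_of_ne (Nat.le_of_dvd Nat.card_pos R.card_subgroup_dvd_card)
      (fun heq => hRp (heq ▸ hpG))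
  have key : ∀ (χ : IrrCharacter G) (θ : IrrCharacter R),
      classInner (Clifford.resFun R (χ : G → ℂ)) (θ : R → ℂ) ≠ 0 →
      charDegree (θ : R → ℂ) = ordCompl[p] (charDegree (χ : G → ℂ)) := by
    intro χ θ hθ
    obtain ⟨h1, h2⟩ := constituent_dvd R χ θ hθ
    rw [he] at h2
    obtain ⟨j, -, hj⟩ := (Nat.dvd_prime_pow hp.out).mp h2
    have hcop : ¬ p ∣ charDegree (θ : R → ℂ) := fun hd => hRp (hd.trans (charDegree_dvd_card θ))
    conv_rhs => rw [← Nat.div_mul_cancel h1, hj, Nat.ordCompl_mul,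
      Nat.ordCompl_self_pow hp.out, one_mul]
    rw [Nat.factorization_eq_zero_of_not_dvd hcop, pow_zero, Nat.div_one]
  have hR3 : Degs3 (ordCompl[p] m) (ordCompl[p] n) R := by
    intro θ
    obtain ⟨χ, hχ⟩ := exists_over R θ
    rcases h χ with h1 | h1 | h1
    · exact Or.inl (by rw [key χ θ hχ, h1]; simp)
    · exact Or.inr (Or.inl (by rw [key χ θ hχ, h1]))
    · exact Or.inr (Or.inr (by rw [key χ θ hχ, h1]))
  set R1 : Subgroup G := (commutator R).map R.subtype with hR1
  have hR1n : R1.Normal := inferInstance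
  have hquot : ∀ χ : IrrCharacter (G ⧸ R1), charDegree (χ : G ⧸ R1 → ℂ) ∣ p ^ e := by
    intro χ
    obtain ⟨θ, hθ⟩ := exists_constituent R (Chars.inflate R1 χ)
    have hlin : charDegree (θ : R → ℂ) = 1 := by
      refine Codegree.charDegree_eq ?_
      rw [Nat.cast_one]
      refine linear_of_trivial_on_commutator θ fun x hx =>
        constituent_kernel R (Chars.inflate R1 χ) θ hθ x ?_
      show (χ : G ⧸ R1 → ℂ) ((x : G) : G ⧸ R1) = (χ : G ⧸ R1 → ℂ) ((1 : G) : G ⧸ R1)
      rw [(QuotientGroup.eq_one_iff (x : G)).mpr (Subgroup.mem_map_of_mem R.subtype hx), QuotientGroup.mk_one]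
    have := (constituent_dvd R (Chars.inflate R1 χ) θ hθ).2
    rw [hlin, Nat.div_one, he] at this
    exact this
  have hpow : ∀ {a : ℕ}, a ∣ p ^ e → ordCompl[p] a = 1 := by
    intro a ha
    obtain ⟨j, -, rfl⟩ := (Nat.dvd_prime_pow hp.out).mp ha
    exact Nat.ordCompl_self_pow hp.out
  by_cases hboth : ordCompl[p] m ≠ 1 ∧ ordCompl[p] n ≠ 1
  · -- everything linear modulo `R'`
    have hq1 : derivedSeries G 1 ≤ (derivedSeries R 1).map R.subtype := by
      rw [derivedSeries_one, derivedSeries_one, ← hR1, ← derivedSeries_one]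
      refine derivedSeries_le_of_quotient R1 ?_
      rw [derivedSeries_one, commutator_def, Subgroup.commutator_eq_bot_iff_le_centralizer]
      refine fun a _ => Subgroup.mem_centralizer_iff.mpr fun b _ =>
        CoprimeDegree.mul_comm_of_linear (fun χ => ?_) b a
      rw [(Chars.charDegree_spec χ).2, Nat.cast_eq_one]
      rcases h.quotient R1 χ with h1 | h1 | h1
      · exact h1
      · exact absurd (h1 ▸ hpow (hquot χ)) hboth.1
      · exact absurd (h1 ▸ hpow (hquot χ)) hboth.2
    have := derivedSeries_le_map_of_le R hq1 2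
    rw [ih R hlt _ _ hR3, Subgroup.map_bot] at this
    exact le_bot_iff.mp this
  obtain ⟨a, b, hab, hb1⟩ : ∃ a b : ℕ, Degs3 a b G ∧ ordCompl[p] a = 1 ∧
      Degs3 (ordCompl[p] a) (ordCompl[p] b) R := by
    rw [not_and_or, not_not, not_not] at hboth
    rcases hboth with h1 | h1
    · exact ⟨m, n, h, h1, hR3⟩
    · exact ⟨n, m, h.swap, h1, hR3.swap⟩
  obtain ⟨ha1, hRab⟩ := hb1
  have hR2 : derivedSeries R 2 = ⊥ := by
    refine derivedSeries_two_of_degreesOneOr (m := ordCompl[p] b) fun θ => ?_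
    rcases hRab θ with h1 | h1 | h1
    · exact Or.inl h1
    · exact Or.inl (h1.trans ha1)
    · exact Or.inr h1
  by_cases hb : ordCompl[p] b = 1
  · -- `R` abelian and the group monomial
    have hRcomm : ∀ x ∈ R, ∀ y ∈ R, x * y = y * x := fun x hx y hy =>
      congrArg Subtype.val (CoprimeDegree.mul_comm_of_linear (G := R) (fun θ => by
        rw [(Chars.charDegree_spec θ).2, Nat.cast_eq_one]
        rcases hRab θ with h1 | h1 | h1
        · exact h1
        · exact h1.trans ha1
        · exact h1.trans hb) ⟨x, hx⟩ ⟨y, hy⟩)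
    have hmono : ∀ χ : IrrCharacter G, ∃ (H : Subgroup G) (ν : H →* ℂˣ),
        (χ : G → ℂ) = indFun H (fun x : H => (ν x : ℂ)) :=
      exists_monomial_of_abelian_normal R hRcomm hRp he
    have hlin : ∀ χ : IrrCharacter G, charDegree (χ : G → ℂ) = 1 →
        ∀ g ∈ derivedSeries G 1, (χ : G → ℂ) g = (χ : G → ℂ) 1 := by
      intro χ hχ g hg
      have h1 : (χ : G → ℂ) 1 = 1 := by rw [(Chars.charDegree_spec χ).2, hχ, Nat.cast_one]
      rw [h1]
      exact Chars.eq_one_of_mem_commutator χ h1 (derivedSeries_one (G := G) ▸ hg)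
    suffices key' : ∀ a b : ℕ, a ≤ b → Degs3 a b G → derivedSeries G 3 = ⊥ from
      (le_total a b).elim (fun hle => key' a b hle hab) fun hle => key' b a hle hab.swap
    intro a b hle hab
    have hA : ∀ χ : IrrCharacter G, charDegree (χ : G → ℂ) ≤ max a 1 →
        ∀ g ∈ derivedSeries G 2, (χ : G → ℂ) g = (χ : G → ℂ) 1 := by
      intro χ hχ
      obtain ⟨H, ν, hν⟩ := hmono χ
      refine taketa H ν χ hν 1 fun ψ hψ => hlin ψ ?_
      have := (Chars.charDegree_spec ψ).1
      rcases hab ψ with h1 | h1 | h1 <;> omega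
    refine le_bot_of_forall_irr fun g hg χ => ?_
    obtain ⟨H, ν, hν⟩ := hmono χ
    refine taketa H ν χ hν 2 (fun ψ hψ => hA ψ ?_) g hg
    have := (Chars.charDegree_spec ψ).1
    rcases hab ψ with h1 | h1 | h1 <;> rcases hab χ with h2 | h2 | h2 <;> omega
  · -- two degrees modulo `R'`
    have hq2 : derivedSeries G 2 ≤ (derivedSeries R 1).map R.subtype := by
      rw [derivedSeries_one, ← hR1]
      refine derivedSeries_le_of_quotient R1 (derivedSeries_two_of_degreesOneOr (m := a) fun χ => ?_)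
      rcases hab.quotient R1 χ with h1 | h1 | h1
      · exact Or.inl h1
      · exact Or.inr h1
      · exact absurd (h1 ▸ hpow (hquot χ)) hb
    have := derivedSeries_le_map_of_le R hq2 1
    rw [hR2, Subgroup.map_bot] at this
    exact le_bot_iff.mp this

end Cfsg.Agent.Lib.ThreeDegrees
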