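import Cfsg.Agent.Lib.ThreeDegrees.Basic

/-!
# Three degrees, coprime nontrivial degrees: no perfect minimal normal subgroup
-/

set_option autoImplicit false

namespace Cfsg.Agent.Lib.ThreeDegrees

open Cfsg.Agent.Lib
open Cfsg.Agent.Lib.Chars (trivialIrr)
open scoped commutatorElement ComplexConjugate

universe u

variable {G : Type u} [Group G]

/-- The multiplicities of the constituents of a character. -/
theorem exists_decomp [Fintype G] {φ : G → ℂ} (hφ : IsCharacter G φ) {d : ℕ} (hd : φ 1 = d) :
    ∃ c : IrrCharacter G → ℕ, (∀ ψ : IrrCharacter G, classInner φ (ψ : G → ℂ) = c ψ) ∧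
      ∑ ψ, c ψ * charDegree (ψ : G → ℂ) = d ∧
      ∀ g, φ g = ∑ ψ, (c ψ : ℂ) * (ψ : G → ℂ) g := by
  obtain ⟨c, hc⟩ := Chars.isCharacter_exists_nat_decomp hφ
  refine ⟨c, fun ψ => by rw [hc, Chars.classInner_sum_smul_irr], ?_, fun g => by simp [hc]⟩
  have h1 := congrFun hc 1
  simp only [hd, Finset.sum_apply, Pi.smul_apply, smul_eq_mul, (Chars.charDegree_spec _).2] at h1
  exact_mod_cast h1.symm

theorem degree_mul [Fintype G] (χ ψ : IrrCharacter G) :
    ((χ : G → ℂ) * (ψ : G → ℂ)) 1 =
      ((charDegree (χ : G → ℂ) * charDegree (ψ : G → ℂ) : ℕ) : ℂ) := by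
  rw [Pi.mul_apply, (Chars.charDegree_spec χ).2, (Chars.charDegree_spec ψ).2, Nat.cast_mul]

/-- The product of a degree-`m` and a degree-`n` character has no constituent of degree `m`. -/
theorem classInner_mul_eq_zero [Fintype G] {m n : ℕ} (hd : Degs3 m n G) (hm : 1 < m) (hmn : m < n)
    (hcop : m.Coprime n) (N : Subgroup G) [N.Normal] (hN0 : N ≠ ⊥) (hNG : N ≤ commutator G)
    (hfaith : ∀ ψ : IrrCharacter G, charDegree (ψ : G → ℂ) = n →
      ∀ g : G, (ψ : G → ℂ) g = (ψ : G → ℂ) 1 → g = 1)
    (χ χ' ψ : IrrCharacter G) (hχ : charDegree (χ : G → ℂ) = m)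
    (hχ' : charDegree (χ' : G → ℂ) = m) (hψ : charDegree (ψ : G → ℂ) = n) :
    classInner ((χ : G → ℂ) * (ψ : G → ℂ)) (χ' : G → ℂ) = 0 := by
  classical
  by_contra h0
  have htwist : ∀ ξ : IrrCharacter G, charDegree (ξ : G → ℂ) = m →
      classInner ((χ : G → ℂ) * (ψ : G → ℂ)) (ξ : G → ℂ) ≠ 0 →
      ∀ g ∈ N, (ξ : G → ℂ) g = (χ : G → ℂ) g := by
    intro ξ hξ hne
    let χc := Chars.irrConj χ
    have hχc : charDegree (χc : G → ℂ) = m := by
      refine Codegree.charDegree_eq ?_
      rw [Chars.irrConj_apply, (Chars.charDegree_spec χ).2, hχ, Complex.conj_natCast]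
    have hφ : IsCharacter G ((χc : G → ℂ) * (ξ : G → ℂ)) :=
      Chars.isCharacter_mul (Chars.irr_isCharacter χc) (Chars.irr_isCharacter ξ)
    obtain ⟨c, hc, hsum, -⟩ := exists_decomp hφ (degree_mul χc ξ)
    rw [hχc, hξ] at hsum
    have hcψ : c ψ ≠ 0 := by
      intro h
      refine hne ?_
      have h2 : classInner ((χ : G → ℂ) * (ψ : G → ℂ)) (ξ : G → ℂ) =
          conj (classInner ((χc : G → ℂ) * (ξ : G → ℂ)) (ψ : G → ℂ)) := by
        rw [Chars.conj_classInner]
        simp only [classInner, Pi.mul_apply]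
        congr 1
        refine Finset.sum_congr rfl fun g _ => ?_
        rw [show (χc : G → ℂ) g = conj ((χ : G → ℂ) g) from Chars.irrConj_apply χ g, map_mul,
          Complex.conj_conj]
        ring
      rw [h2, hc, h, Nat.cast_zero, map_zero]
    obtain ⟨lam, hlam, hlam1⟩ : ∃ lam, c lam ≠ 0 ∧ charDegree (lam : G → ℂ) = 1 := by
      by_contra! hcon
      set A := ∑ φ ∈ Finset.univ.filter
        (fun φ : IrrCharacter G => charDegree (φ : G → ℂ) = m), c φ with hA
      set B := ∑ φ ∈ Finset.univ.filter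
        (fun φ : IrrCharacter G => charDegree (φ : G → ℂ) = n), c φ with hB
      have hsplit : ∑ φ, c φ * charDegree (φ : G → ℂ) = A * m + B * n := by
        rw [hA, hB, Finset.sum_mul, Finset.sum_mul, Finset.sum_filter, Finset.sum_filter,
          ← Finset.sum_add_distrib]
        refine Finset.sum_congr rfl fun φ _ => ?_
        rcases hd φ with h1 | h1 | h1
        · have : c φ = 0 := by
            by_contra hne'
            exact hcon φ hne' h1
          simp [this]
        · simp [h1, hmn.ne]
        · simp [h1, hmn.ne']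
      rw [hsplit] at hsum
      have hB0 : 0 < B := lt_of_lt_of_le (Nat.pos_of_ne_zero hcψ)
        (Finset.single_le_sum (f := c) (fun _ _ => Nat.zero_le _)
          (Finset.mem_filter.mpr ⟨Finset.mem_univ ψ, hψ⟩))
      have hmB : m ∣ B := by
        refine hcop.dvd_of_dvd_mul_right ?_
        exact (Nat.dvd_add_right (dvd_mul_left m A)).mp (hsum ▸ dvd_mul_left m m)
      have := Nat.le_of_dvd hB0 hmB
      have h3 : m * n ≤ B * n := Nat.mul_le_mul_right n this
      have h4 : m * m < m * n := Nat.mul_lt_mul_of_pos_left hmn (by omega)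
      omega
    obtain ⟨f, hf⟩ := Chars.exists_hom_of_degree_one (Chars.irr_isCharacter lam)
      (by rw [(Chars.charDegree_spec lam).2, hlam1, Nat.cast_one])
    let tw : IrrCharacter G := ⟨_, Chars.isIrrCharacter_hom_mul f χ.2⟩
    have heq : ξ = tw := by
      by_contra hne'
      refine hlam ?_
      have h1 : classInner ((χc : G → ℂ) * (ξ : G → ℂ)) (lam : G → ℂ) =
          classInner (ξ : G → ℂ) (tw : G → ℂ) := by
        simp only [classInner, Pi.mul_apply]
        congr 1
        refine Finset.sum_congr rfl fun g _ => ?_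
        rw [show (χc : G → ℂ) g = conj ((χ : G → ℂ) g) from Chars.irrConj_apply χ g,
          show (tw : G → ℂ) g = (f g : ℂ) * (χ : G → ℂ) g from rfl, map_mul, hf]
        ring
      rw [hc, Chars.classInner_irr_of_ne hne'] at h1
      exact_mod_cast h1
    intro g hg
    rw [heq]
    show (f g : ℂ) * _ = _
    rw [MonoidHom.mem_ker.mp (Abelianization.commutator_subset_ker f (hNG hg)), Units.val_one,
      one_mul]
  have hφ : IsCharacter G ((χ : G → ℂ) * (ψ : G → ℂ)) :=
    Chars.isCharacter_mul (Chars.irr_isCharacter χ) (Chars.irr_isCharacter ψ)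
  obtain ⟨c, hc, hsum, hval⟩ := exists_decomp hφ (degree_mul χ ψ)
  rw [hχ, hψ] at hsum
  have hlin : ∀ φ : IrrCharacter G, charDegree (φ : G → ℂ) = 1 → c φ = 0 := by
    intro φ hφ1
    obtain ⟨f, hf⟩ := Chars.exists_hom_of_degree_one (Chars.irr_isCharacter φ)
      (by rw [(Chars.charDegree_spec φ).2, hφ1, Nat.cast_one])
    let tw : IrrCharacter G := ⟨_, Chars.isIrrCharacter_hom_mul f (Chars.irrConj χ).2⟩
    have hne : ψ ≠ tw := by
      intro h
      have h1 : charDegree (tw : G → ℂ) = m := by
        refine Codegree.charDegree_eq ?_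
        show (f 1 : ℂ) * (Chars.irrConj χ : G → ℂ) 1 = _
        rw [map_one, Units.val_one, one_mul, Chars.irrConj_apply, (Chars.charDegree_spec χ).2, hχ,
          Complex.conj_natCast]
      rw [← h, hψ] at h1
      omega
    have h1 : classInner ((χ : G → ℂ) * (ψ : G → ℂ)) (φ : G → ℂ) =
        classInner (ψ : G → ℂ) (tw : G → ℂ) := by
      simp only [classInner, Pi.mul_apply]
      congr 1
      refine Finset.sum_congr rfl fun g _ => ?_
      rw [show (tw : G → ℂ) g = (f g : ℂ) * conj ((χ : G → ℂ) g) from rfl, map_mul,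
        Complex.conj_conj, hf]
      ring
    rw [hc, Chars.classInner_irr_of_ne hne] at h1
    exact_mod_cast h1
  set A := ∑ φ ∈ Finset.univ.filter
    (fun φ : IrrCharacter G => charDegree (φ : G → ℂ) = m), c φ with hA
  set B := ∑ φ ∈ Finset.univ.filter
    (fun φ : IrrCharacter G => charDegree (φ : G → ℂ) = n), c φ with hB
  have hsplit : ∑ φ, c φ * charDegree (φ : G → ℂ) = A * m + B * n := by
    rw [hA, hB, Finset.sum_mul, Finset.sum_mul, Finset.sum_filter, Finset.sum_filter,
      ← Finset.sum_add_distrib]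
    refine Finset.sum_congr rfl fun φ _ => ?_
    rcases hd φ with h1 | h1 | h1
    · simp [hlin φ h1]
    · simp [h1, hmn.ne]
    · simp [h1, hmn.ne']
  rw [hsplit] at hsum
  have hA0 : 0 < A := by
    refine lt_of_lt_of_le (Nat.pos_of_ne_zero fun h => ?_)
      (Finset.single_le_sum (f := c) (fun _ _ => Nat.zero_le _)
        (Finset.mem_filter.mpr ⟨Finset.mem_univ χ', hχ'⟩))
    exact h0 (by rw [hc, h, Nat.cast_zero])
  have hnA : n ∣ A := by
    refine hcop.symm.dvd_of_dvd_mul_right ?_
    exact (Nat.dvd_add_left (dvd_mul_left n B)).mp (hsum ▸ dvd_mul_left n m)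
  have hAle := Nat.le_of_dvd hA0 hnA
  have hmul : n * m ≤ A * m := Nat.mul_le_mul_right m hAle
  have hcomm : n * m = m * n := Nat.mul_comm n m
  have hB0 : B * n = 0 := by omega
  have hAn : A = n := Nat.eq_of_mul_eq_mul_right (by omega : 0 < m) (by omega)
  have hcn : ∀ φ : IrrCharacter G, charDegree (φ : G → ℂ) = n → c φ = 0 := by
    intro φ hφn
    have hB' : B = 0 := (mul_eq_zero.mp hB0).resolve_right (by omega)
    exact (Finset.sum_eq_zero_iff.mp hB') φ (Finset.mem_filter.mpr ⟨Finset.mem_univ _, hφn⟩)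
  have hvan : ∀ g ∈ N, g ≠ 1 → (χ : G → ℂ) g = 0 := by
    intro g hg hg1
    have h1 : (χ : G → ℂ) g * (ψ : G → ℂ) g = (n : ℂ) * (χ : G → ℂ) g := by
      calc (χ : G → ℂ) g * (ψ : G → ℂ) g = ∑ φ, (c φ : ℂ) * (φ : G → ℂ) g := hval g
        _ = ∑ φ ∈ Finset.univ.filter (fun φ : IrrCharacter G => charDegree (φ : G → ℂ) = m),
            (c φ : ℂ) * (χ : G → ℂ) g := by
          rw [Finset.sum_filter]
          refine Finset.sum_congr rfl fun φ _ => ?_
          by_cases hc0 : c φ = 0
          · simp [hc0]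
          rcases hd φ with h1 | h1 | h1
          · exact absurd (hlin φ h1) hc0
          · rw [if_pos h1, htwist φ h1 (by rw [hc]; exact_mod_cast hc0) g hg]
          · exact absurd (hcn φ h1) hc0
        _ = _ := by rw [← Finset.sum_mul, ← Nat.cast_sum, ← hA, hAn]
    by_contra hχg
    refine hg1 (hfaith ψ hψ g ?_)
    rw [(Chars.charDegree_spec ψ).2, hψ]
    exact mul_left_cancel₀ hχg (h1.trans (mul_comm _ _))
  -- the restriction to `N` contains the trivial character
  have := Fintype.ofFinite N
  have hne : classInner (Clifford.resFun N (χ : G → ℂ)) (trivialIrr N : N → ℂ) ≠ 0 := by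
    simp only [classInner, Clifford.resFun, Chars.trivialIrr_apply, map_one, mul_one]
    rw [Finset.sum_eq_single (1 : N) (fun x _ hx => hvan x x.2 (fun h => hx (Subtype.ext h)))
      (by simp)]
    exact mul_ne_zero (inv_ne_zero (Nat.cast_ne_zero.mpr Nat.card_pos.ne'))
      (Chars.irr_apply_one_ne_zero χ)
  have hres := Clifford.resFun_eq_smul_of_invariant χ.2 (trivialIrr N).2 hne
    (fun g => funext fun x => by simp [Clifford.conjFun])
  obtain ⟨g, hg, hg1⟩ := (Subgroup.bot_or_exists_ne_one N).resolve_left hN0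
  have h1 := congrFun hres ⟨g, hg⟩
  have h2 := congrFun hres 1
  simp only [Clifford.resFun, Pi.smul_apply, Chars.trivialIrr_apply] at h1 h2
  rw [← h2, hvan g hg hg1] at h1
  exact Chars.irr_apply_one_ne_zero χ h1.symm

/-- A nonsolvable group with three degrees `1`, `m`, `n` with `m`, `n` coprime does not exist. -/
theorem false_of_nonsolvable_coprime [Finite G] {m n : ℕ} (hd : Degs3 m n G) (hm : 1 < m)
    (hmn : m < n) (hcop : m.Coprime n) (hexn : ∃ χ : IrrCharacter G, charDegree (χ : G → ℂ) = n)
    (hns : ¬ Group.IsSolvable G)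
    (hquot : ∀ (L : Subgroup G) [L.Normal], L ≠ ⊥ → derivedSeries (G ⧸ L) 3 = ⊥) : False := by
  classical
  cases nonempty_fintype G
  set N := derivedSeries G 3 with hNdef
  have hNn : N.Normal := derivedSeries_normal G 3
  have := Fintype.ofFinite N
  have hNne : N ≠ ⊥ := fun h => hns ((Group.isSolvable_def G).mpr ⟨3, h⟩)
  have hNmin : ∀ L : Subgroup G, L.Normal → L ≠ ⊥ → N ≤ L := fun L hL hL0 =>
    derivedSeries_le_of_quotient L (hquot L hL0)
  have hNG : N ≤ commutator G := by
    rw [← derivedSeries_one]; exact derivedSeries_antitone G (by omega : 1 ≤ 3)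
  have hperf : commutator N = ⊤ := by
    have h4 : derivedSeries G 4 ≠ ⊥ := fun h => hns ((Group.isSolvable_def G).mpr ⟨4, h⟩)
    have hle := hNmin _ (derivedSeries_normal G 4) h4
    apply Subgroup.map_injective N.subtype_injective
    rw [N.map_subtype_commutator, ← MonoidHom.range_eq_map, N.range_subtype]
    refine le_antisymm (Subgroup.commutator_le_self N) ?_
    rwa [derivedSeries_succ] at hle
  have hNnontriv : Nontrivial N := (Subgroup.nontrivial_iff_ne_bot N).mpr hNne
  have hNsolv : ¬ Group.IsSolvable N := fun h => by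
    have h1 := Group.IsSolvable.commutator_lt_top_of_nontrivial (G := N)
    rw [hperf] at h1
    exact lt_irrefl _ h1
  have hF : fittingSubgroup G = ⊥ := by
    by_contra h
    have : Group.IsNilpotent (fittingSubgroup G) := Fitting.isNilpotent_fittingSubgroup
    have hle := hNmin _ Fitting.fittingSubgroup_normal h
    exact hNsolv (Group.isSolvable_of_isSolvable_injective (Subgroup.inclusion_injective hle))
  have hfaith : ∀ ψ : IrrCharacter G, charDegree (ψ : G → ℂ) = n →
      ∀ g : G, (ψ : G → ℂ) g = (ψ : G → ℂ) 1 → g = 1 := by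
    intro ψ hψ g hg
    by_contra hg1
    have := Codegree.kerIrr_normal ψ
    obtain ⟨η, hη, -⟩ := Chars.exists_larger_degree_smaller_kernel ψ (Codegree.kerIrr ψ)
      (fun g => Codegree.mem_kerIrr ψ) (Or.inl fun hle => hg1 (Subgroup.mem_bot.mp
        (hF ▸ hle ((Codegree.mem_kerIrr ψ).mpr hg))))
    rcases hd η with h | h | h <;> omega
  by_cases hA : ∃ χ : IrrCharacter G, charDegree (χ : G → ℂ) = m ∧
      ∀ g : G, (χ : G → ℂ) g = (χ : G → ℂ) 1 → g = 1
  · -- a faithful character of degree `m`
    obtain ⟨χ, hχ, hχf⟩ := hA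
    have hzero := classInner_mul_eq_zero hd hm hmn hcop N hNne hNG hfaith
    have hpow : ∀ k : ℕ, ∀ φ : IrrCharacter G, charDegree (φ : G → ℂ) = n →
        classInner ((χ : G → ℂ) ^ k) (φ : G → ℂ) = 0 := by
      have hchar : ∀ k : ℕ, IsCharacter G ((χ : G → ℂ) ^ k) := by
        intro k
        induction k with
        | zero => rw [pow_zero]; exact Chars.irr_isCharacter (trivialIrr G)
        | succ k ih => rw [pow_succ]; exact Chars.isCharacter_mul ih (Chars.irr_isCharacter χ)
      intro k
      induction k with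
      | zero =>
        intro φ hφ
        rw [pow_zero]
        refine Chars.classInner_irr_of_ne (χ := trivialIrr G) (ψ := φ) fun h => ?_
        rw [← h, Codegree.charDegree_eq (d := 1) (by simp)] at hφ
        omega
      | succ k ih =>
        intro φ hφ
        obtain ⟨c, hc⟩ := Chars.isCharacter_exists_nat_decomp (hchar k)
        rw [pow_succ, hc, Finset.sum_mul, Chars.classInner_sum_left]
        refine Finset.sum_eq_zero fun η _ => ?_
        rw [smul_mul_assoc, Chars.classInner_smul_left]
        by_cases hc0 : c η = 0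
        · rw [hc0, Nat.cast_zero, zero_mul]
        refine mul_eq_zero_of_right _ ?_
        rcases hd η with h1 | h1 | h1
        · obtain ⟨f, hf⟩ := Chars.exists_hom_of_degree_one (Chars.irr_isCharacter η)
            (by rw [(Chars.charDegree_spec η).2, h1, Nat.cast_one])
          rw [hf]
          refine Chars.classInner_irr_of_ne (χ := ⟨_, Chars.isIrrCharacter_hom_mul f χ.2⟩)
            (ψ := φ) fun h => ?_
          have h2 : charDegree (φ : G → ℂ) = m := by
            rw [← h]
            refine Codegree.charDegree_eq ?_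
            show (f 1 : ℂ) * (χ : G → ℂ) 1 = _
            rw [map_one, Units.val_one, one_mul, (Chars.charDegree_spec χ).2, hχ]
          omega
        · have hχc : charDegree (Chars.irrConj χ : G → ℂ) = m := by
            refine Codegree.charDegree_eq ?_
            rw [Chars.irrConj_apply, (Chars.charDegree_spec χ).2, hχ, Complex.conj_natCast]
          have h2 := hzero (Chars.irrConj χ) η φ hχc h1 hφ
          have h3 : classInner ((η : G → ℂ) * (χ : G → ℂ)) (φ : G → ℂ) =
              conj (classInner ((Chars.irrConj χ : G → ℂ) * (φ : G → ℂ)) (η : G → ℂ)) := by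
            rw [Chars.conj_classInner]
            simp only [classInner, Pi.mul_apply]
            congr 1
            refine Finset.sum_congr rfl fun g _ => ?_
            rw [Chars.irrConj_apply, map_mul, Complex.conj_conj]
            ring
          rw [h3, h2, map_zero]
        · exfalso
          have h2 := ih η h1
          rw [hc, Chars.classInner_sum_smul_irr] at h2
          exact hc0 (by exact_mod_cast h2)
    obtain ⟨ψ, hψ⟩ := hexn
    let vals : Finset ℂ := (Finset.univ.image fun g : G => (χ : G → ℂ) g).erase ((χ : G → ℂ) 1)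
    let f : Polynomial ℂ := ∏ w ∈ vals, (Polynomial.X - Polynomial.C w)
    have hfm : f.eval ((χ : G → ℂ) 1) ≠ 0 := by
      rw [Polynomial.eval_prod, Finset.prod_ne_zero_iff]
      intro w hw
      rw [Polynomial.eval_sub, Polynomial.eval_X, Polynomial.eval_C, sub_ne_zero]
      exact (Finset.ne_of_mem_erase hw).symm
    have hf0 : ∀ g : G, g ≠ 1 → f.eval ((χ : G → ℂ) g) = 0 := by
      intro g hg
      rw [Polynomial.eval_prod]
      refine Finset.prod_eq_zero (i := (χ : G → ℂ) g)
        (Finset.mem_erase.mpr ⟨fun h => hg (hχf g h), Finset.mem_image_of_mem _ (Finset.mem_univ g)⟩)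
        ?_
      rw [Polynomial.eval_sub, Polynomial.eval_X, Polynomial.eval_C, sub_self]
    have hzero' : classInner (fun g => f.eval ((χ : G → ℂ) g)) (ψ : G → ℂ) = 0 := by
      have he : (fun g => f.eval ((χ : G → ℂ) g)) =
          ∑ i ∈ Finset.range (f.natDegree + 1), f.coeff i • ((χ : G → ℂ) ^ i) := by
        funext g
        simp [Polynomial.eval_eq_sum_range]
      rw [he, Chars.classInner_sum_left]
      exact Finset.sum_eq_zero fun i _ => by
        rw [Chars.classInner_smul_left, hpow i ψ hψ, mul_zero]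
    rw [classInner, Finset.sum_eq_single (1 : G) (fun g _ hg => by rw [hf0 g hg, zero_mul])
      (by simp)] at hzero'
    refine mul_ne_zero (inv_ne_zero (Nat.cast_ne_zero.mpr Nat.card_pos.ne'))
      (mul_ne_zero hfm ((map_ne_zero (starRingEnd ℂ)).mpr (Chars.irr_apply_one_ne_zero ψ))) hzero'
  -- all characters of degree `m` are trivial on `N`
  push Not at hA
  have hsmall : ∀ ξ : IrrCharacter G, charDegree (ξ : G → ℂ) ≠ n →
      ∀ g ∈ N, (ξ : G → ℂ) g = (ξ : G → ℂ) 1 := by
    intro ξ hξ g hg
    rcases hd ξ with h | h | h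
    · have h1 : (ξ : G → ℂ) 1 = 1 := by rw [(Chars.charDegree_spec ξ).2, h, Nat.cast_one]
      rw [h1]
      exact Chars.eq_one_of_mem_commutator ξ h1 (hNG hg)
    · obtain ⟨y, hy, hy1⟩ := hA ξ h
      have := Codegree.kerIrr_normal ξ
      have hle := hNmin (Codegree.kerIrr ξ) inferInstance fun h0 => hy1 (Subgroup.mem_bot.mp
        (h0 ▸ (Codegree.mem_kerIrr ξ).mpr hy))
      exact (Codegree.mem_kerIrr ξ).mp (hle hg)
    · exact absurd h hξ
  obtain ⟨φ, hφ⟩ : ∃ φ : IrrCharacter N, charDegree (φ : N → ℂ) ≠ 1 := by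
    by_contra! h
    refine hNsolv ((Group.isSolvable_def N).mpr ⟨1, ?_⟩)
    rw [derivedSeries_one, commutator_def, Subgroup.commutator_eq_bot_iff_le_centralizer]
    exact fun a _ => Subgroup.mem_centralizer_iff.mpr fun b _ =>
      CoprimeDegree.mul_comm_of_linear
        (fun χ => by rw [(Chars.charDegree_spec χ).2, h χ, Nat.cast_one]) b a
  obtain ⟨p, hp, hpφ⟩ := Nat.exists_prime_and_dvd hφ
  have := Fact.mk hp
  have hpN : p ∣ Nat.card N := hpφ.trans (charDegree_dvd_card φ)
  have hpn : p ∣ n := by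
    obtain ⟨ξ, hξ⟩ := exists_over N φ
    by_cases h : charDegree (ξ : G → ℂ) = n
    · exact hpφ.trans (h ▸ (constituent_dvd N ξ φ hξ).1)
    · refine absurd (Codegree.charDegree_eq ?_) hφ
      rw [Nat.cast_one]
      exact linear_of_trivial_on_commutator φ fun x _ =>
        constituent_kernel N ξ φ hξ x (hsmall ξ h x x.2)
  let P : Sylow p G := default
  set H : Subgroup G := N ⊔ (P : Subgroup G) with hH
  have := Fintype.ofFinite H
  set N0 : Subgroup H := N.subgroupOf H with hN0
  obtain ⟨j, hj⟩ : ∃ j, N0.index = p ^ j := by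
    obtain ⟨k, hk⟩ := IsPGroup.iff_card.mp P.isPGroup'
    have hdvd : N0.index ∣ p ^ k := by
      rw [← hk, hN0, show (N.subgroupOf H).index = N.relIndex H from rfl, hH, sup_comm,
        Subgroup.relIndex_sup_right]
      exact (N.subgroupOf (P : Subgroup G)).index_dvd_card
    obtain ⟨j, -, hj⟩ := (Nat.dvd_prime_pow hp).mp hdvd
    exact ⟨j, hj⟩
  have hR : p ∣ Nat.card (Cfsg.pResidual p H) := by
    have : (Cfsg.pResidual p H).Normal := Transfer.pResidual_normal
    have hQ : Group.IsNilpotent (H ⧸ Cfsg.pResidual p H) :=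
      (Transfer.isPGroup_quotient_pResidual (G := H) (p := p)).isNilpotent
    let f : N →* H ⧸ Cfsg.pResidual p H :=
      (QuotientGroup.mk' _).comp (Subgroup.inclusion (le_sup_left : N ≤ H))
    have hrange : f.range = ⊥ := by
      by_contra hne'
      have hperf' : ⁅f.range, f.range⁆ = f.range := by
        rw [MonoidHom.range_eq_map, ← Subgroup.map_commutator, ← commutator_def, hperf]
      exact (Group.IsSolvable.commutator_lt_of_ne_bot hne').ne hperf'
    have hle : N0 ≤ Cfsg.pResidual p H := fun x hx => by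
      rw [← QuotientGroup.eq_one_iff]
      have : f ⟨(x : G), hx⟩ ∈ f.range := ⟨_, rfl⟩
      rw [hrange, Subgroup.mem_bot] at this
      exact this
    refine hpN.trans ((dvd_of_eq ?_).trans (Subgroup.card_dvd_of_le hle))
    exact (Nat.card_congr (Subgroup.subgroupOfEquivOfLe (le_sup_left : N ≤ H)).toEquiv).symm
  obtain ⟨η, hη1, hηp⟩ : ∃ η : IrrCharacter H,
      charDegree (η : H → ℂ) ≠ 1 ∧ ¬ p ∣ charDegree (η : H → ℂ) := by
    by_contra! h
    exact Chars.not_dvd_card_pResidual_of_degrees p h hR
  obtain ⟨c, hc, hsum, -⟩ := exists_decomp (d := H.index * charDegree (η : H → ℂ))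
    (Chars.isCharacter_indFun H (Chars.irr_isCharacter η))
    (by rw [Chars.indFun_one_eq, (Chars.charDegree_spec η).2, Nat.cast_mul])
  obtain ⟨ξ, hξc, hξp⟩ : ∃ ξ, c ξ ≠ 0 ∧ ¬ p ∣ charDegree (ξ : G → ℂ) := by
    by_contra! h
    have hdvd : p ∣ H.index * charDegree (η : H → ℂ) := by
      rw [← hsum]
      refine Finset.dvd_sum fun ξ _ => ?_
      by_cases h0 : c ξ = 0
      · simp [h0]
      · exact (h ξ h0).mul_left _
    rcases (Nat.Prime.dvd_mul hp).mp hdvd with h1 | h1
    · exact P.not_dvd_index (h1.trans (Subgroup.index_dvd_of_le le_sup_right))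
    · exact hηp h1
  have hξn : charDegree (ξ : G → ℂ) ≠ n := fun h => hξp (h ▸ hpn)
  have hcon : classInner (Clifford.resFun H (ξ : G → ℂ)) (η : H → ℂ) ≠ 0 := by
    intro h
    refine hξc ?_
    have h1 := hc ξ
    rw [Chars.classInner_indFun_left H _ _ (Chars.irr_isClassFunction ξ),
      ← Chars.conj_classInner] at h1
    rw [show classInner (fun x : H => (ξ : G → ℂ) x) (η : H → ℂ) = 0 from h, map_zero] at h1
    exact_mod_cast h1.symm
  obtain ⟨τ, hτ⟩ := Chars.exists_irr_quotient N0 η fun x hx =>
    constituent_kernel H ξ η hcon x (hsmall ξ hξn x hx)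
  have hdiv : charDegree (η : H → ℂ) ∣ p ^ j := by
    rw [← hj, Subgroup.index_eq_card, Codegree.charDegree_eq (χ := (η : H → ℂ))
      (d := charDegree (τ : H ⧸ N0 → ℂ)) (by
        rw [← hτ 1, QuotientGroup.mk_one]
        exact (Chars.charDegree_spec τ).2)]
    exact charDegree_dvd_card τ
  obtain ⟨i, -, hi⟩ := (Nat.dvd_prime_pow hp).mp hdiv
  rcases i with _ | i
  · exact hη1 (by simpa using hi)
  · exact hηp (hi ▸ dvd_pow_self p (by omega))

end Cfsg.Agent.Lib.ThreeDegrees
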