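import Cfsg.Agent.Lib.ThreeDegrees.Solvable
import Cfsg.Agent.Lib.ThreeDegrees.Perfect

/-!
# Groups with at most three irreducible degrees have derived length at most three
-/

set_option autoImplicit false

namespace Cfsg.Agent.Lib.ThreeDegrees

open Cfsg.Agent.Lib

universe u

theorem derivedSeries_three_eq_bot (G : Type u) [Group G] [Finite G] (m n : ℕ)
    (hd : Degs3 m n G) : derivedSeries G 3 = ⊥ := by
  induction hk : Nat.card G using Nat.strong_induction_on generalizing G m n with
  | _ k ih =>
    subst hk
    have two : ∀ a, Chars.DegreesOneOr a G → derivedSeries G 3 = ⊥ := fun a ha =>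
      le_bot_iff.mp ((derivedSeries_antitone G (by omega : 2 ≤ 3)).trans_eq
        (derivedSeries_two_of_degreesOneOr ha))
    by_cases hexm : 1 < m ∧ ∃ χ : IrrCharacter G, charDegree (χ : G → ℂ) = m
    swap
    · refine two n fun χ => ?_
      have := (Chars.charDegree_spec χ).1
      rcases hd χ with h | h | h
      · exact Or.inl h
      · exact Or.inl (by
          by_contra hne
          exact hexm ⟨by omega, χ, h⟩)
      · exact Or.inr h
    obtain ⟨hm, hexm⟩ := hexm
    by_cases hexn : 1 < n ∧ ∃ χ : IrrCharacter G, charDegree (χ : G → ℂ) = n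
    swap
    · refine two m fun χ => ?_
      have := (Chars.charDegree_spec χ).1
      rcases hd χ with h | h | h
      · exact Or.inl h
      · exact Or.inr h
      · exact Or.inl (by
          by_contra hne
          exact hexn ⟨by omega, χ, h⟩)
    obtain ⟨hn, hexn⟩ := hexn
    by_cases hg : m.gcd n = 1
    swap
    · obtain ⟨p, hp, hpd⟩ := Nat.exists_prime_and_dvd hg
      have := Fact.mk hp
      exact common_prime hd hexm (hpd.trans (Nat.gcd_dvd_left m n))
        (hpd.trans (Nat.gcd_dvd_right m n)) (fun H _ _ hlt a b hab => ih _ hlt H a b hab rfl)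
    by_cases hsolv : Group.IsSolvable G
    · exact solvable_coprime hd hm hn hg hexm hexn
    have hquot : ∀ (L : Subgroup G) [L.Normal], L ≠ ⊥ → derivedSeries (G ⧸ L) 3 = ⊥ := by
      intro L _ hL
      refine ih _ ?_ (G ⧸ L) m n (hd.quotient L) rfl
      rw [Subgroup.card_eq_card_quotient_mul_card_subgroup L]
      exact lt_mul_of_one_lt_right Nat.card_pos
        (Finite.one_lt_card_iff_nontrivial.mpr ((Subgroup.nontrivial_iff_ne_bot L).mpr hL))
    rcases lt_trichotomy m n with h | h | h
    · exact (false_of_nonsolvable_coprime hd hm h hg hexn hsolv hquot).elim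
    · rw [h, Nat.gcd_self] at hg
      omega
    · exact (false_of_nonsolvable_coprime hd.swap hn h (Nat.Coprime.symm hg) hexm hsolv
        hquot).elim

end Cfsg.Agent.Lib.ThreeDegrees
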