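import Cfsg.Agent.Lib.ThreeDegrees.Basic

/-!
# Three degrees, coprime nontrivial degrees, solvable groups
-/

set_option autoImplicit false

namespace Cfsg.Agent.Lib.ThreeDegrees

open Cfsg.Agent.Lib
open Cfsg.Agent.Lib.Chars (trivialIrr)
open scoped commutatorElement

universe u

variable {G : Type u} [Group G]

theorem lin_mul_injective [Fintype G] (K : Subgroup G) [K.Normal] [Fintype K] {ψ : G → ℂ}
    (hψ : IsIrrCharacter G ψ) (hK : IsIrrCharacter K (Clifford.resFun K ψ)) (a b : G →* ℂˣ)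
    (ha : K ≤ a.ker) (hb : K ≤ b.ker)
    (he : (fun g => (a g : ℂ) * ψ g) = fun g => (b g : ℂ) * ψ g) : a = b := by
  obtain ⟨-, hinj, -⟩ := Clifford.gallagher hψ hK
  let la : IrrCharacter (G ⧸ K) :=
    ⟨_, Chars.isIrrCharacter_of_hom (QuotientGroup.lift K a ha)⟩
  let lb : IrrCharacter (G ⧸ K) :=
    ⟨_, Chars.isIrrCharacter_of_hom (QuotientGroup.lift K b hb)⟩
  have hl : la = lb := hinj (funext fun g => by
    show ψ g * (a g : ℂ) = ψ g * (b g : ℂ)
    rw [mul_comm, congrFun he g, mul_comm])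
  refine MonoidHom.ext fun g => Units.ext ?_
  exact congrFun (congrArg Subtype.val hl) (g : G ⧸ K)

theorem exists_lin_mul [Fintype G] (K : Subgroup G) [K.Normal] [Fintype K] {ψ C : G → ℂ}
    (hψ : IsIrrCharacter G ψ) (hK : IsIrrCharacter K (Clifford.resFun K ψ))
    (hC : IsIrrCharacter G C) (hres : Clifford.resFun K C = Clifford.resFun K ψ) :
    ∃ μ : G →* ℂˣ, K ≤ μ.ker ∧ C = fun g => (μ g : ℂ) * ψ g := by
  obtain ⟨-, -, hiff⟩ := Clifford.gallagher hψ hK
  obtain ⟨β, hβ⟩ := (hiff C hC).mp (by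
    rw [hres]
    have h1 : classInner (Clifford.resFun K ψ) (Clifford.resFun K ψ) = 1 :=
      Chars.classInner_irr_self ⟨_, hK⟩
    rw [h1]; exact one_ne_zero)
  have h1 : (β : G ⧸ K → ℂ) 1 = 1 := by
    have := congrFun hres 1
    simp only [Clifford.resFun, hβ, Pi.mul_apply, Clifford.inflate_apply_mem] at this
    exact mul_left_cancel₀ (Chars.irr_apply_one_ne_zero ⟨ψ, hψ⟩)
      (this.trans (mul_one _).symm)
  obtain ⟨f, hf⟩ := Chars.exists_hom_of_degree_one (Chars.irr_isCharacter β) h1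
  refine ⟨f.comp (QuotientGroup.mk' K), fun k hk => ?_, ?_⟩
  · rw [MonoidHom.mem_ker, MonoidHom.comp_apply, QuotientGroup.mk'_apply,
      (QuotientGroup.eq_one_iff k).mpr hk, map_one]
  · funext g
    rw [hβ, Pi.mul_apply, mul_comm]
    exact congrArg (· * ψ g) (congrFun hf (g : G ⧸ K))

/-- Some twist by a linear character of `N ⧸ K` induces irreducibly (Isaacs 12.4). -/
theorem exists_induced_twist [Fintype G] (N K : Subgroup G) [N.Normal] [K.Normal]
    (hGN : commutator G ≤ N) (hKN : K ≤ N) (hNK : commutator N ≤ K.subgroupOf N)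
    (hne : K.subgroupOf N ≠ ⊤)
    (hfpf : ∀ g : G, g ∉ N → ∀ x ∈ N, ∃ y ∈ N, x⁻¹ * (g * y * g⁻¹ * y⁻¹) ∈ K)
    (ψ : IrrCharacter N)
    (hcop : (K.subgroupOf N).index.Coprime (charDegree (ψ : N → ℂ))) :
    ∃ χ : IrrCharacter G, charDegree (χ : G → ℂ) = N.index * charDegree (ψ : N → ℂ) := by
  classical
  have := Fintype.ofFinite N
  set K0 : Subgroup N := K.subgroupOf N with hK0
  have := Fintype.ofFinite K0
  have hθ : IsIrrCharacter K0 (Clifford.resFun K0 (ψ : N → ℂ)) :=
    Chars.restrict_irr_of_coprime K0 ψ hcop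
  let tw : (N →* ℂˣ) → N → ℂ := fun lam x => (lam x : ℂ) * (ψ : N → ℂ) x
  have htw : ∀ lam, IsIrrCharacter N (tw lam) := fun lam => Chars.isIrrCharacter_hom_mul lam ψ.2
  have htwK : ∀ lam : N →* ℂˣ, K0 ≤ lam.ker →
      Clifford.resFun K0 (tw lam) = Clifford.resFun K0 (ψ : N → ℂ) := fun lam hl => by
    funext k
    show (lam k : ℂ) * _ = _
    rw [MonoidHom.mem_ker.mp (hl k.2), Units.val_one, one_mul]
    rfl
  have hfix : ∀ g : G, g ∉ N → ∀ mu : N →* ℂˣ, K0 ≤ mu.ker →
      (∀ x : N, mu (MulAut.conjNormal g x) = mu x) → mu = 1 := by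
    intro g hg mu hmu hinv
    refine MonoidHom.ext fun x => ?_
    obtain ⟨y, hy, hxy⟩ := hfpf g hg x x.2
    have hmem : x⁻¹ * (MulAut.conjNormal g (⟨y, hy⟩ : N) * (⟨y, hy⟩ : N)⁻¹) ∈ K0 := by
      rw [hK0, Subgroup.mem_subgroupOf]
      simpa [MulAut.conjNormal_apply, mul_assoc] using hxy
    have h1 := MonoidHom.mem_ker.mp (hmu hmem)
    rw [map_mul, map_mul, map_inv, map_inv, hinv, mul_inv_cancel, mul_one, inv_eq_one] at h1
    rw [h1, MonoidHom.one_apply]
  have hconjK : ∀ (g : G) (lam : N →* ℂˣ), K0 ≤ lam.ker →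
      K0 ≤ (lam.comp (MulAut.conjNormal g).toMonoidHom).ker := by
    intro g lam hlam k hk
    rw [MonoidHom.mem_ker, MonoidHom.comp_apply]
    refine MonoidHom.mem_ker.mp (hlam ?_)
    rw [hK0, Subgroup.mem_subgroupOf] at hk ⊢
    show ((MulAut.conjNormal g k : N) : G) ∈ K
    rw [MulAut.conjNormal_apply]
    exact Subgroup.Normal.conj_mem inferInstance _ hk g
  have huniq : ∀ g : G, g ∉ N → ∀ a b : N →* ℂˣ, K0 ≤ a.ker → K0 ≤ b.ker →
      Clifford.conjFun g (tw a) = tw a → Clifford.conjFun g (tw b) = tw b → a = b := by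
    intro g hg a b ha hb hfa hfb
    set mu : N →* ℂˣ := b * a⁻¹ with hmu
    have hmuK : K0 ≤ mu.ker := fun k hk => by
      rw [MonoidHom.mem_ker, hmu, MonoidHom.mul_apply, MonoidHom.inv_apply,
        MonoidHom.mem_ker.mp (ha hk), MonoidHom.mem_ker.mp (hb hk), inv_one, mul_one]
    have hbmu : ∀ x : N, (b x : ℂ) = (mu x : ℂ) * (a x : ℂ) := fun x => by
      rw [← Units.val_mul, hmu, MonoidHom.mul_apply, MonoidHom.inv_apply, inv_mul_cancel_right]
    have he : mu.comp (MulAut.conjNormal g).toMonoidHom = mu := by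
      refine lin_mul_injective K0 (htw a) ((htwK a ha).symm ▸ hθ) _ _ (hconjK g mu hmuK) hmuK
        (funext fun x => ?_)
      have h1 : tw a (MulAut.conjNormal g x) = tw a x := congrFun hfa x
      have h2 : tw b (MulAut.conjNormal g x) = tw b x := congrFun hfb x
      show (mu (MulAut.conjNormal g x) : ℂ) * tw a x = (mu x : ℂ) * tw a x
      calc (mu (MulAut.conjNormal g x) : ℂ) * tw a x
          = (mu (MulAut.conjNormal g x) : ℂ) * tw a (MulAut.conjNormal g x) := by rw [h1]
        _ = tw b (MulAut.conjNormal g x) := by simp only [tw, hbmu]; ring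
        _ = tw b x := h2
        _ = _ := by simp only [tw, hbmu]; ring
    have h3 := hfix g hg mu hmuK fun x => DFunLike.congr_fun he x
    rw [hmu] at h3
    exact (mul_inv_eq_one.mp h3).symm
  have hinner : ∀ c : G, c ∈ N → ∀ lam, Clifford.conjFun c (tw lam) = tw lam := fun c hc lam =>
    funext fun x => Chars.isClassFunction_of_isCharacter
      (Chars.isCharacter_of_isIrrCharacter (htw lam)) x ⟨c, hc⟩
  have hcommon : ∀ g g' : G, g ∉ N → g' ∉ N → ∀ a b : N →* ℂˣ, K0 ≤ a.ker → K0 ≤ b.ker →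
      Clifford.conjFun g (tw a) = tw a → Clifford.conjFun g' (tw b) = tw b → a = b := by
    intro g g' hg hg' a b ha hb hfa hfb
    have hC : Clifford.conjFun g (Clifford.conjFun g' (tw a)) = Clifford.conjFun g' (tw a) := by
      rw [← Clifford.conjFun_mul]
      have hc : g' * g = ⁅g', g⁆ * (g * g') := by simp [commutatorElement_def, mul_assoc]
      rw [hc, Clifford.conjFun_mul, hinner _ (hGN (Subgroup.commutator_mem_commutator
        (Subgroup.mem_top g') (Subgroup.mem_top g))), Clifford.conjFun_mul, hfa]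
    obtain ⟨μ, hμK, hμ⟩ := exists_lin_mul K0 ψ.2 hθ
      (Clifford.isIrrCharacter_conjFun g' (htw a)) (by
        funext k
        let k' : K0 := ⟨⟨g' * ((k : N) : G) * g'⁻¹,
          Subgroup.Normal.conj_mem inferInstance _ (k : N).2 g'⟩,
          Subgroup.Normal.conj_mem (H := K) inferInstance _ k.2 g'⟩
        show tw a (k' : N) = (ψ : N → ℂ) k
        have h1 : tw b (k' : N) = tw b (k : N) := congrFun hfb k
        have h2 := congrFun (htwK a ha) k'
        have h3 := congrFun (htwK b hb) k'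
        have h4 := congrFun (htwK b hb) k
        simp only [Clifford.resFun] at h2 h3 h4
        rw [h2, ← h3, h1, h4])
    have hμ' : Clifford.conjFun g' (tw a) = tw μ := hμ
    have h1 : Clifford.conjFun g (tw μ) = tw μ := by rw [← hμ']; exact hC
    obtain rfl := huniq g hg a μ ha hμK hfa h1
    exact huniq g' hg' a b ha hb hμ' hfb
  -- a nontrivial linear character trivial on `K`
  obtain ⟨nu, hnuK, hnu⟩ : ∃ nu : N →* ℂˣ, K0 ≤ nu.ker ∧ nu ≠ 1 := by
    have : Nontrivial (N ⧸ K0) := QuotientGroup.nontrivial_iff.mpr hne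
    have hab : IsMulCommutative (N ⧸ K0) :=
      (Subgroup.Normal.quotient_commutative_iff_commutator_le).mpr hNK
    have hbot : commutator (N ⧸ K0) = ⊥ := by
      rw [commutator_def, Subgroup.commutator_eq_bot_iff_le_centralizer]
      exact fun a _ => Subgroup.mem_centralizer_iff.mpr fun b _ => hab.is_comm.comm b a
    have : Finite (N ⧸ K0 →* ℂˣ) := Finite.of_injective _ Chars.linIrr_injective
    have hcard : 1 < Nat.card (N ⧸ K0 →* ℂˣ) := by
      rw [Chars.card_monoidHom_units, hbot, Subgroup.index_bot]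
      exact Finite.one_lt_card
    have : Nontrivial (N ⧸ K0 →* ℂˣ) := Finite.one_lt_card_iff_nontrivial.mp hcard
    obtain ⟨f, hf⟩ := exists_ne (1 : N ⧸ K0 →* ℂˣ)
    refine ⟨f.comp (QuotientGroup.mk' K0), fun k hk => ?_, fun h => hf (MonoidHom.ext fun q => ?_)⟩
    · rw [MonoidHom.mem_ker, MonoidHom.comp_apply, QuotientGroup.mk'_apply,
        (QuotientGroup.eq_one_iff k).mpr hk, map_one]
    · obtain ⟨x, rfl⟩ := QuotientGroup.mk_surjective q
      exact DFunLike.congr_fun h x
  -- choose a twist with inertia group `N`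
  obtain ⟨lam, hlamK, hlam⟩ : ∃ lam : N →* ℂˣ, K0 ≤ lam.ker ∧
      ∀ g, g ∈ N ↔ Clifford.conjFun g (tw lam) = tw lam := by
    by_cases hex : ∃ g a, g ∉ N ∧ K0 ≤ MonoidHom.ker a ∧ Clifford.conjFun g (tw a) = tw a
    · obtain ⟨g, a, hg, ha, hfa⟩ := hex
      refine ⟨a * nu, fun k hk => ?_, fun g' => ⟨fun h => hinner g' h _, fun h => ?_⟩⟩
      · rw [MonoidHom.mem_ker, MonoidHom.mul_apply, MonoidHom.mem_ker.mp (ha hk),
          MonoidHom.mem_ker.mp (hnuK hk), mul_one]
      · by_contra hg'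
        refine hnu ?_
        have := hcommon g g' hg hg' a (a * nu) ha (fun k hk => by
          rw [MonoidHom.mem_ker, MonoidHom.mul_apply, MonoidHom.mem_ker.mp (ha hk),
            MonoidHom.mem_ker.mp (hnuK hk), mul_one]) hfa h
        refine MonoidHom.ext fun x => ?_
        exact (mul_eq_left (a := a x)).mp (DFunLike.congr_fun this.symm x)
    · push Not at hex
      refine ⟨nu, hnuK, fun g' => ⟨fun h => hinner g' h _, fun h => ?_⟩⟩
      by_contra hg'
      exact hex g' nu hg' hnuK h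
  have hirr := Clifford.isIrrCharacter_indFun_inertia (htw lam) hlam le_rfl (htw lam) (by
    rw [show Clifford.resTo (le_refl N) (tw lam) = tw lam from rfl,
      show classInner (tw lam) (tw lam) = 1 from Chars.classInner_irr_self ⟨_, htw lam⟩]
    exact one_ne_zero)
  refine ⟨⟨_, hirr⟩, Codegree.charDegree_eq ?_⟩
  show indFun N (tw lam) 1 = _
  rw [Chars.indFun_one_eq, Nat.cast_mul]
  simp [tw, (Chars.charDegree_spec ψ).2]

/-- The Frobenius quotient case. -/
theorem frobenius_case [Finite G] {f h : ℕ} (hd : Degs3 f h G) (hf : 1 < f) (hh : 1 < h)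
    (hfh : f.Coprime h) (N K : Subgroup G) [N.Normal] [K.Normal]
    (hGN : commutator G ≤ N) (hKN : K ≤ N) (hNK : commutator N ≤ K.subgroupOf N)
    (hne : K.subgroupOf N ≠ ⊤) (hN : N ≠ ⊤)
    (hfpf : ∀ g : G, g ∉ N → ∀ x ∈ N, ∃ y ∈ N, x⁻¹ * (g * y * g⁻¹ * y⁻¹) ∈ K)
    (hcop : N.index.Coprime (K.subgroupOf N).index) : derivedSeries G 3 = ⊥ := by
  cases nonempty_fintype G
  have := Fintype.ofFinite N
  have hN1 : N.index ≠ 1 := fun h => hN (Subgroup.index_eq_one.mp h)
  wlog hidx : N.index = f generalizing f h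
  · refine this hd.swap hh hf hfh.symm ?_
    have htriv : charDegree (trivialIrr N : N → ℂ) = 1 := Codegree.charDegree_eq (by simp)
    obtain ⟨χ, hχ⟩ := exists_induced_twist N K hGN hKN hNK hne hfpf (trivialIrr N)
      (by rw [htriv]; exact Nat.coprime_one_right _)
    rw [htriv, mul_one] at hχ
    rcases hd χ with h1 | h1 | h1
    · exact absurd (hχ.symm.trans h1) hN1
    · exact absurd (hχ.symm.trans h1) hidx
    · exact hχ.symm.trans h1
  have hN2 : Chars.DegreesOneOr h N := by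
    intro ψ
    obtain ⟨χ, hχ⟩ := exists_over N ψ
    obtain ⟨h1, h2⟩ := constituent_dvd N χ ψ hχ
    rw [hidx] at h2
    rcases hd χ with h3 | h3 | h3
    · exact Or.inl (Nat.eq_one_of_dvd_one (h3 ▸ h1))
    · left
      rw [h3] at h1
      obtain ⟨χ', hχ'⟩ := exists_induced_twist N K hGN hKN hNK hne hfpf ψ
        ((hcop.symm).coprime_dvd_right (hidx ▸ h1))
      rw [hidx] at hχ'
      rcases hd χ' with h4 | h4 | h4
      · rw [hχ', mul_eq_one] at h4; exact h4.2
      · rw [hχ'] at h4; exact (mul_eq_left₀ (by omega)).mp h4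
      · rw [hχ'] at h4
        exact absurd (Nat.eq_one_of_dvd_coprimes hfh dvd_rfl (h4 ▸ dvd_mul_right f _)) (by omega)
    · right
      rw [h3] at h1 h2
      exact (Nat.eq_of_dvd_of_div_eq_one h1
        (Nat.eq_one_of_dvd_coprimes hfh h2 (Nat.div_dvd_of_dvd h1)))
  have h1 : derivedSeries G 1 ≤ (derivedSeries N 0).map N.subtype := by
    rw [derivedSeries_one, derivedSeries_zero, ← MonoidHom.range_eq_map, N.range_subtype]
    exact hGN
  have := derivedSeries_le_map_of_le N h1 2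
  rw [derivedSeries_two_of_degreesOneOr hN2, Subgroup.map_bot] at this
  exact le_bot_iff.mp this

/-- Solvable groups with coprime nontrivial degrees. -/
theorem solvable_coprime [Finite G] [Group.IsSolvable G] {f h : ℕ} (hd : Degs3 f h G)
    (hf : 1 < f) (hh : 1 < h) (hfh : f.Coprime h)
    (hexf : ∃ χ : IrrCharacter G, charDegree (χ : G → ℂ) = f)
    (hexh : ∃ χ : IrrCharacter G, charDegree (χ : G → ℂ) = h) : derivedSeries G 3 = ⊥ := by
  classical
  cases nonempty_fintype G
  by_cases hc : commutator G = ⊥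
  · refine le_bot_iff.mp ((derivedSeries_antitone G (by omega : 1 ≤ 3)).trans ?_)
    rw [derivedSeries_one, hc]
  obtain ⟨K, ⟨hKn, hKc⟩, hmax⟩ := (Set.toFinite {K : Subgroup G | K.Normal ∧
    ¬ commutator G ≤ K}).exists_maximal ⟨⊥, inferInstance, fun h => hc (le_bot_iff.mp h)⟩
  set M := commutator (G ⧸ K) with hMdef
  have hmap : (commutator G).map (QuotientGroup.mk' K) = M := by
    rw [commutator_def, Subgroup.map_commutator,
      Subgroup.map_top_of_surjective _ (QuotientGroup.mk'_surjective K), hMdef, commutator_def]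
  have hne : M ≠ ⊥ := by
    rw [← hmap, Ne, Subgroup.map_eq_bot_iff, QuotientGroup.ker_mk']
    exact hKc
  have hmin : ∀ L : Subgroup (G ⧸ K), L.Normal → L ≠ ⊥ → M ≤ L := by
    intro L hL hL0
    rw [← hmap, Subgroup.map_le_iff_le_comap]
    by_contra h
    have hKL : K ≤ L.comap (QuotientGroup.mk' K) := fun x hx => by
      rw [Subgroup.mem_comap, QuotientGroup.mk'_apply, (QuotientGroup.eq_one_iff x).mpr hx]
      exact L.one_mem
    have heq := le_antisymm hKL (hmax ⟨hL.comap _, h⟩ hKL)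
    refine hL0 ?_
    rw [← Subgroup.map_comap_eq_self_of_surjective (QuotientGroup.mk'_surjective K) L, ← heq,
      QuotientGroup.map_mk'_self]
  have hMab : ∀ a ∈ M, ∀ b ∈ M, a * b = b * a := by
    have hMM : ⁅M, M⁆ = ⊥ := by
      by_contra h
      exact (Group.IsSolvable.commutator_lt_of_ne_bot hne).not_ge (hmin _ inferInstance h)
    intro a ha b hb
    have := Subgroup.commutator_mem_commutator ha hb
    rw [hMM, Subgroup.mem_bot] at this
    exact commutatorElement_eq_one_iff_mul_comm.mp this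
  have hMn : M.Normal := inferInstance
  by_cases hnil : Group.IsNilpotent (G ⧸ K)
  · -- a `p`-group
    exfalso
    obtain ⟨p, hp, hpM⟩ := Nat.exists_prime_and_dvd (n := Nat.card M)
      (fun h => hne (Subgroup.card_eq_one.mp h))
    have := Fact.mk hp
    have hall : ∀ q : ℕ, q.Prime → q ∣ Nat.card (G ⧸ K) → q = p := by
      intro q hq hqd
      have := Fact.mk hq
      let S : Sylow q (G ⧸ K) := default
      have hle := hmin S inferInstance (S.ne_bot_of_dvd_card hqd)
      obtain ⟨k, hk⟩ := IsPGroup.iff_card.mp S.isPGroup'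
      have := hpM.trans ((Subgroup.card_dvd_of_le hle).trans (dvd_of_eq hk))
      exact ((Nat.prime_dvd_prime_iff_eq hp hq).mp (hp.dvd_of_dvd_pow this)).symm
    obtain ⟨k, hk⟩ : ∃ k, Nat.card (G ⧸ K) = p ^ k :=
      ⟨_, Nat.eq_prime_pow_of_unique_prime_dvd Nat.card_pos.ne' fun {d} hd hdvd => hall d hd hdvd⟩
    obtain ⟨β, hβ⟩ : ∃ β : IrrCharacter (G ⧸ K), charDegree (β : G ⧸ K → ℂ) ≠ 1 := by
      by_contra! h
      refine hne ?_
      rw [hMdef, commutator_def, Subgroup.commutator_eq_bot_iff_le_centralizer]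
      exact fun a _ => Subgroup.mem_centralizer_iff.mpr fun b _ =>
        CoprimeDegree.mul_comm_of_linear
          (fun χ => by rw [(Chars.charDegree_spec χ).2, h χ, Nat.cast_one]) b a
    wlog hβf : charDegree (β : G ⧸ K → ℂ) = f generalizing f h
    · refine this hd.swap hh hf hfh.symm hexh hexf ?_
      exact ((hd.quotient K β).resolve_left hβ).resolve_left hβf
    obtain ⟨χ, hχ⟩ := hexh
    have := Fintype.ofFinite K
    have hfp : f ∣ p ^ k := hk ▸ hβf ▸ charDegree_dvd_card β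
    have hcop : K.index.Coprime (charDegree (χ : G → ℂ)) := by
      rw [Subgroup.index_eq_card, hk, hχ]
      obtain ⟨j, -, rfl⟩ := (Nat.dvd_prime_pow hp).mp hfp
      have hj : 0 < j := Nat.pos_of_ne_zero (by rintro rfl; simp at hf)
      exact ((Nat.coprime_pow_left_iff hj _ _).mp hfh).pow_left k
    have hirr := (Clifford.gallagher χ.2 (Chars.restrict_irr_of_coprime K χ hcop)).1 β
    have hdeg : charDegree ((χ : G → ℂ) * (Chars.inflate K β : G → ℂ)) = h * f := by
      refine Codegree.charDegree_eq ?_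
      show (χ : G → ℂ) 1 * (Chars.inflate K β : G → ℂ) ((1 : K) : G) = _
      rw [Clifford.inflate_apply_mem, (Chars.charDegree_spec χ).2, hχ,
        (Chars.charDegree_spec β).2, hβf, Nat.cast_mul]
    rcases hd ⟨_, hirr⟩ with h4 | h4 | h4 <;> rw [hdeg] at h4
    · have := Nat.eq_one_of_mul_eq_one_left h4; omega
    · have := (mul_eq_right₀ (by omega : f ≠ 0)).mp h4; omega
    · have := (mul_eq_left₀ (by omega : h ≠ 0)).mp h4; omega
  -- a Frobenius group
  obtain ⟨H, hH, hHn⟩ : ∃ H : Subgroup (G ⧸ K), IsCoatom H ∧ ¬ H.Normal := by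
    by_contra! hcon
    exact hnil ((Group.isNilpotent_of_finite_tfae.out 0 2 rfl rfl).mpr hcon)
  have hMH : ¬ M ≤ H := fun hle => hHn ⟨fun a ha g => by
    have h1 : ⁅g, a⁆ ∈ H :=
      hle (Subgroup.commutator_mem_commutator (Subgroup.mem_top g) (Subgroup.mem_top a))
    have : g * a * g⁻¹ = ⁅g, a⁆ * a := by simp [commutatorElement_def, mul_assoc]
    rw [this]
    exact H.mul_mem h1 ha⟩
  have hsup : H ⊔ M = ⊤ := hH.2 _ (left_lt_sup.mpr hMH)
  have hdecomp : ∀ g : G ⧸ K, ∃ v ∈ M, ∃ x ∈ H, g = v * x := fun g => by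
    have hg : g ∈ M ⊔ H := by rw [sup_comm, hsup]; trivial
    obtain ⟨v, hv, x, hx, rfl⟩ := Subgroup.mem_sup_of_normal_left.mp hg
    exact ⟨v, hv, x, hx, rfl⟩
  have hinf : H ⊓ M = ⊥ := by
    by_contra hne'
    refine hMH ((hmin _ ⟨fun a ha g => ?_⟩ hne').trans inf_le_left)
    obtain ⟨v, hv, x, hx, rfl⟩ := hdecomp g
    have h1 : x * a * x⁻¹ ∈ H ⊓ M :=
      ⟨H.mul_mem (H.mul_mem hx ha.1) (H.inv_mem hx), hMn.conj_mem a ha.2 x⟩
    have : v * x * a * (v * x)⁻¹ = x * a * x⁻¹ := by
      calc v * x * a * (v * x)⁻¹ = v * (x * a * x⁻¹) * v⁻¹ := by group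
        _ = _ := by rw [hMab v hv _ h1.2, mul_inv_cancel_right]
    rw [this]
    exact h1
  have hHab : ∀ a ∈ H, ∀ b ∈ H, a * b = b * a := fun a ha b hb => by
    refine commutatorElement_eq_one_iff_mul_comm.mp ?_
    rw [← Subgroup.mem_bot, ← hinf]
    exact ⟨H.mul_mem (H.mul_mem (H.mul_mem ha hb) (H.inv_mem ha)) (H.inv_mem hb),
      Subgroup.commutator_mem_commutator (Subgroup.mem_top a) (Subgroup.mem_top b)⟩
  have hcentral : ∀ x ∈ H, x ≠ 1 → ∀ y ∈ M, x * y = y * x → y = 1 := by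
    intro x hx hx1 y hy hxy
    by_contra hy1
    have hL : (M ⊓ Subgroup.centralizer ({x} : Set (G ⧸ K))).Normal := ⟨fun a ha g => by
      obtain ⟨v, hv, z, hz, rfl⟩ := hdecomp g
      have hz1 : z * a * z⁻¹ ∈ M := hMn.conj_mem a ha.1 z
      have : v * z * a * (v * z)⁻¹ = z * a * z⁻¹ := by
        calc v * z * a * (v * z)⁻¹ = v * (z * a * z⁻¹) * v⁻¹ := by group
          _ = _ := by rw [hMab v hv _ hz1, mul_inv_cancel_right]
      rw [this]
      refine ⟨hz1, Subgroup.mem_centralizer_singleton_iff.mpr ?_⟩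
      have c1 : Commute z x := hHab z hz x hx
      have c2 : Commute a x := Subgroup.mem_centralizer_singleton_iff.mp ha.2
      exact ((c1.mul_left c2).mul_left c1.inv_left).eq⟩
    have hle := hmin _ hL fun h0 => hy1 (Subgroup.mem_bot.mp
      (h0 ▸ ⟨hy, Subgroup.mem_centralizer_singleton_iff.mpr hxy.symm⟩))
    have hcen : ∀ g, g * x = x * g := fun g => by
      obtain ⟨v, hv, z, hz, rfl⟩ := hdecomp g
      have c1 : Commute z x := hHab z hz x hx
      have c2 : Commute v x := Subgroup.mem_centralizer_singleton_iff.mp (hle hv).2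
      exact (c2.mul_left c1).eq
    have hzn : (Subgroup.zpowers x).Normal := ⟨fun a ha g => by
      obtain ⟨i, rfl⟩ := ha
      have : Commute g (x ^ i) := (show Commute g x from hcen g).zpow_right i
      show g * x ^ i * g⁻¹ ∈ _
      rw [this.eq, mul_inv_cancel_right]
      exact ⟨i, rfl⟩⟩
    exact hMH ((hmin _ hzn (by simpa using hx1)).trans (Subgroup.zpowers_le.mpr hx))
  have hsurj : ∀ g, g ∉ M → ∀ v ∈ M, ∃ y ∈ M, g * y * g⁻¹ * y⁻¹ = v := by
    intro g hg v hv
    obtain ⟨w, hw, x, hx, rfl⟩ := hdecomp g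
    have hx1 : x ≠ 1 := by rintro rfl; exact hg (by simpa using hw)
    have hred : ∀ y ∈ M, w * x * y * (w * x)⁻¹ * y⁻¹ = x * y * x⁻¹ * y⁻¹ := fun y hy => by
      calc w * x * y * (w * x)⁻¹ * y⁻¹ = w * (x * y * x⁻¹) * w⁻¹ * y⁻¹ := by group
        _ = _ := by rw [hMab w hw _ (hMn.conj_mem y hy x), mul_inv_cancel_right]
    let φ : M → M := fun y => ⟨x * y * x⁻¹ * (y : G ⧸ K)⁻¹,
      M.mul_mem (hMn.conj_mem y y.2 x) (M.inv_mem y.2)⟩
    have hinj : Function.Injective φ := by
      intro a b hab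
      have h1 : x * a * x⁻¹ * (a : G ⧸ K)⁻¹ = x * b * x⁻¹ * (b : G ⧸ K)⁻¹ := congrArg Subtype.val hab
      have hq : (a : G ⧸ K)⁻¹ * b ∈ M := M.mul_mem (M.inv_mem a.2) b.2
      have h2 : x * ((a : G ⧸ K)⁻¹ * b) = ((a : G ⧸ K)⁻¹ * b) * x := by
        have h3 : (x * a * x⁻¹)⁻¹ * (x * b * x⁻¹) = (a : G ⧸ K)⁻¹ * b := by
          rw [inv_mul_eq_iff_eq_mul]
          calc x * b * x⁻¹ = (x * b * x⁻¹ * (b : G ⧸ K)⁻¹) * b := by group
            _ = (x * a * x⁻¹ * (a : G ⧸ K)⁻¹) * b := by rw [h1]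
            _ = _ := by group
        calc x * ((a : G ⧸ K)⁻¹ * b) = ((x * a * x⁻¹)⁻¹ * (x * b * x⁻¹)) * x := by group
          _ = _ := by rw [h3]
      exact Subtype.ext (inv_mul_eq_one.mp (hcentral x hx hx1 _ hq h2))
    obtain ⟨y, hy⟩ := Finite.surjective_of_injective hinj ⟨v, hv⟩
    exact ⟨y, y.2, (hred y y.2).trans (congrArg Subtype.val hy)⟩
  set N := M.comap (QuotientGroup.mk' K) with hNdef
  have hNn : N.Normal := hMn.comap _
  have hKN : K ≤ N := fun x hx => by
    rw [hNdef, Subgroup.mem_comap, QuotientGroup.mk'_apply, (QuotientGroup.eq_one_iff x).mpr hx]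
    exact M.one_mem
  have hGN : commutator G ≤ N := Subgroup.map_le_iff_le_comap.mp hmap.le
  have hNK : commutator N ≤ K.subgroupOf N := by
    rw [commutator_def, Subgroup.commutator_le]
    intro a _ b _
    rw [Subgroup.mem_subgroupOf, ← QuotientGroup.eq_one_iff]
    exact commutatorElement_eq_one_iff_mul_comm.mpr (hMab _ a.2 _ b.2)
  have hNidx : N.index = M.index :=
    Subgroup.index_comap_of_surjective M (QuotientGroup.mk'_surjective K)
  have hrel : (K.subgroupOf N).index = Nat.card M := by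
    have h1 : K.relIndex N * N.index = K.index := Subgroup.relIndex_mul_index hKN
    rw [Subgroup.index_eq_card K, ← M.card_mul_index, ← hNidx] at h1
    exact Nat.eq_of_mul_eq_mul_right (Nat.pos_of_ne_zero Subgroup.index_ne_zero_of_finite) h1
  have hMtop : M ≠ ⊤ := fun h => hnil (by
    have : H = ⊥ := by rw [← hinf, h, inf_top_eq]
    exact absurd (this ▸ inferInstanceAs ((⊥ : Subgroup (G ⧸ K))).Normal) hHn)
  refine frobenius_case hd hf hh hfh N K hGN hKN hNK ?_ ?_ ?_ ?_
  · intro h0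
    have := (hrel ▸ (Subgroup.index_eq_one.mpr h0) : Nat.card M = 1)
    exact hne (Subgroup.card_eq_one.mp this)
  · intro h0
    exact hMtop (Subgroup.index_eq_one.mp (hNidx ▸ Subgroup.index_eq_one.mpr h0))
  · intro g hg x hx
    obtain ⟨y, hy, hye⟩ := hsurj (g : G ⧸ K) (fun h => hg h) (x : G ⧸ K) hx
    obtain ⟨y', rfl⟩ := QuotientGroup.mk_surjective y
    refine ⟨y', hy, ?_⟩
    rw [← QuotientGroup.eq_one_iff]
    simp only [QuotientGroup.mk_mul, QuotientGroup.mk_inv, hye, inv_mul_cancel]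
  · -- coprimality
    rw [hNidx, hrel]
    have hMH' : M.index = Nat.card H := by
      have h1 := Subgroup.relIndex_sup_right (K := M) (H := H)
      rw [hsup, Subgroup.relIndex_top_right] at h1
      rw [h1, Subgroup.relIndex, show M.subgroupOf H = ⊥ from
        Subgroup.subgroupOf_eq_bot.mpr (disjoint_iff.mpr (by rw [inf_comm, hinf])),
        Subgroup.index_bot]
    rw [hMH']
    refine Nat.coprime_of_dvd fun q hq hqH hqM => ?_
    have := Fact.mk hq
    obtain ⟨x, hx⟩ := exists_prime_orderOf_dvd_card' q hqH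
    -- `M` is a `q`-group
    have hMq : IsPGroup q M := by
      let R : Sylow q M := default
      have : (R : Subgroup M).Normal := ⟨fun a ha g => by
        rw [show g * a * g⁻¹ = a from Subtype.ext (by
          rw [Subgroup.coe_mul, Subgroup.coe_mul, hMab g g.2 a a.2, Subgroup.coe_inv,
            mul_inv_cancel_right])]
        exact ha⟩
      have := R.characteristic_of_normal inferInstance
      have hRn : (R : Subgroup M) ≠ ⊥ := R.ne_bot_of_dvd_card hqM
      have hle := hmin ((R : Subgroup M).map M.subtype) inferInstance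
        fun h => hRn ((Subgroup.map_eq_bot_iff_of_injective _ M.subtype_injective).mp h)
      refine R.isPGroup'.of_surjective (R : Subgroup M).subtype fun z => ?_
      obtain ⟨y, hy, hyx⟩ := hle z.2
      exact ⟨⟨y, hy⟩, Subtype.ext hyx⟩
    let act : MulAction (Subgroup.zpowers (x : G ⧸ K)) M :=
      MulAction.compHom M ((MulAut.conjNormal (H := M)).comp (Subgroup.zpowers (x : G ⧸ K)).subtype)
    have hP : IsPGroup q (Subgroup.zpowers (x : G ⧸ K)) :=
      IsPGroup.of_card (n := 1) (by rw [Nat.card_zpowers, Subgroup.orderOf_coe, hx, pow_one])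
    obtain ⟨b, hb, hb1⟩ := hP.exists_fixed_point_of_prime_dvd_card_of_fixed_point M hqM
      (a := 1) (fun g => map_one (MulAut.conjNormal (H := M) (g : G ⧸ K)))
    refine hb1.symm (Subtype.ext (hcentral x x.2 (fun h => ?_) b b.2 ?_))
    · have h2 : x = 1 := Subtype.ext h
      rw [h2, orderOf_one] at hx
      exact hq.one_lt.ne hx
    · have h2 := hb ⟨x, Subgroup.mem_zpowers _⟩
      have h3 : (x : G ⧸ K) * b * (x : G ⧸ K)⁻¹ = b :=
        (MulAut.conjNormal_apply (x : G ⧸ K) b).symm.trans (congrArg Subtype.val h2)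
      exact mul_inv_eq_iff_eq_mul.mp h3

end Cfsg.Agent.Lib.ThreeDegrees
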